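import Cfsg.Agent.H69.OQ.InPlus_m3
import Cfsg.Agent.H684.OQ.Alf
import Cfsg.Agent.LieClassical.HermBasic
import Mathlib.NumberTheory.MulChar.Basic
import Cfsg.Agent.FastGrp
import Cfsg.Agent.Prune
set_option linter.all false

section
prune_inst 0x7ffffffbffede7ffdfff7e3fa69ecffdf5a8afffefdffdcbffe0e9bf2b9f7b82cd61ab8d8feb13fc0ff7621c10fc7b53fffffeffe26ffc7ffffdbff45ffbffcfedf7bd0871d68c3e0f300fff63f07f8e7f3fffffffffffffffffffffffffffbeffbfffffffff

-- part: H69/OQ/InMinus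
section
prune_inst 0x400121800200001c0510120000a13100000200000000e00401060041c028a54220000280010088800c402008000000000110002000000000000000000100000000028108010cc60008000000000000000000000000000000000000000000000000000
set_option linter.all false
open scoped Cfsg.Agent.FastGrp

/-!
# S4884, own odd characteristic: `HasIn` for the orthogonal groups of minus type (helper69)

The last node is parametrised by the units of the quadratic field `F[ω]`, `ω² = a ω - b`, acting on the anisotropic plane.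
-/

set_option autoImplicit false
set_option linter.unusedSectionVars false

namespace Cfsg.Agent.H69.OQ

open Cfsg QuadraticMap
open Cfsg.Agent.ChevalleyStructure.CoxeterGeom Cfsg.Agent.Tits.Roots Cfsg.Agent.Nodes.TypeC
open Cfsg.Agent.Nodes Cfsg.Agent.Nodes.Comb Cfsg.Agent.Nodes.Reps Cfsg.Agent.Nodes.WittRoot Cfsg.Agent.Nodes.BNOf
open Cfsg.Agent.Nodes.WittRGD Cfsg.Agent.Nodes.RGDLib Cfsg.Agent.H684.OQ Cfsg.Agent.Nodes.WittAll
open Cfsg.Agent.TitsThree Cfsg.Agent.TitsThree.Siegel Cfsg.Agent.TitsThree.WittFrame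
  Cfsg.Agent.TitsThree.WittWeyl Cfsg.Agent.TitsThree.FrameCN
open Cfsg.Agent.Nodes.WittU Cfsg.Agent.Nodes.WittInst Cfsg.Agent.TitsThree.SiegelGen Cfsg.Agent.TitsThree.WBridge
open Cfsg.Agent.LieClassical Cfsg.Agent.LieClassical.OrthCore Cfsg.Agent.LieClassical.OrthTrans
open Cfsg.Agent.LieClassical.OrthSimple Cfsg.Agent.LieClassical.OrthFinite
open Cfsg.Agent.LieClassical.OrthForms
open Cfsg.Agent.TitsThree.KSideO Cfsg.Agent.TitsThree.StdData

variable {F : Type*} [Field F] {a b : F}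

/-- the quadratic field of the anisotropic plane -/
abbrev LL (a b : F) := QuadraticAlgebra F (-b) a

/-- the norm -/
def NN (z : LL a b) : F := z.re ^ 2 + a * z.re * z.im + b * z.im ^ 2

theorem NN_mul (z z' : LL a b) : NN (z * z') = NN z * NN z' := by
  simp only [NN, QuadraticAlgebra.re_mul, QuadraticAlgebra.im_mul]
  ring

theorem NN_one : NN (1 : LL a b) = 1 := by
  simp [NN, QuadraticAlgebra.re_one, QuadraticAlgebra.im_one]

theorem NN_unit (u : (LL a b)ˣ) : NN (u : LL a b) ≠ 0 := by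
  intro h
  have h1 := NN_mul (u : LL a b) ((u⁻¹ : (LL a b)ˣ) : LL a b)
  rw [Units.mul_inv, NN_one, h, zero_mul] at h1
  exact one_ne_zero h1

theorem exists_unit {z : LL a b} (hz : NN z ≠ 0) : ∃ u : (LL a b)ˣ, (u : LL a b) = z := by
  have h1 : z * ((NN z)⁻¹ • (⟨z.re + a * z.im, -z.im⟩ : LL a b)) = 1 := by
    apply QuadraticAlgebra.ext
    · simp only [QuadraticAlgebra.re_mul, QuadraticAlgebra.re_smul, QuadraticAlgebra.im_smul,
        QuadraticAlgebra.re_one, smul_eq_mul]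
      have h2 : NN z * (NN z)⁻¹ = 1 := mul_inv_cancel₀ hz
      have h3 : NN z = z.re ^ 2 + a * z.re * z.im + b * z.im ^ 2 := rfl
      rw [← h2]
      nth_rewrite 3 [h3]
      ring
    · simp only [QuadraticAlgebra.im_mul, QuadraticAlgebra.re_smul, QuadraticAlgebra.im_smul,
        QuadraticAlgebra.im_one, smul_eq_mul]
      ring
  exact ⟨⟨z, _, h1, by rw [mul_comm]; exact h1⟩, rfl⟩

variable (hab : ∀ z₁ z₂ : F, z₁ ^ 2 + a * z₁ * z₂ + b * z₂ ^ 2 = 0 → z₁ = 0 ∧ z₂ = 0) (m : ℕ)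

/-- the vector of the plane -/
def vv (z : LL a b) : (Fin m ⊕ Fin m) ⊕ Fin 2 → F := (embMinus m F a b hab).j (z.re, z.im)

/-- the admissible pair of an element of the quadratic field -/
def PP (z : LL a b) : (toFrame (wminus m F a b hab)).Adm :=
  (embMinus m F a b hab).ngt ⟨(z.re, z.im), -nf a b (z.re, z.im), rfl⟩

theorem PP_w (z : LL a b) : (PP hab m z).w = vv hab m z := rfl

theorem PP_c (z : LL a b) : (PP hab m z).c = -NN z := by
  change (1 : F)⁻¹ * (-nf a b (z.re, z.im)) = _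
  rw [inv_one, one_mul]
  rfl

theorem vv_add_smul (z z' : LL a b) (c : F) : vv hab m z + c • vv hab m z' = vv hab m (z + c • z') := by
  unfold vv
  rw [← map_smul, ← map_add]
  rfl

theorem vv_mem (z : LL a b) : vv hab m z ∈ (toFrame (wminus m F a b hab)).V0 :=
  (toFrame (wminus m F a b hab)).ok_mem (PP hab m z).ok

theorem exists_vv {w : (Fin m ⊕ Fin m) ⊕ Fin 2 → F} (hw : w ∈ (toFrame (wminus m F a b hab)).V0) :
    ∃ z : LL a b, w = vv hab m z := by
  have hw' : ∀ j, w (Sum.inl j) = 0 := hw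
  refine ⟨⟨w (Sum.inr 0), w (Sum.inr 1)⟩, ?_⟩
  funext j
  rcases j with j | j
  · rw [hw']; rfl
  · fin_cases j <;> rfl

/-- the polar form -/
def BB (z z' : LL a b) : F := 2 * z.re * z'.re + a * (z.re * z'.im + z.im * z'.re) + 2 * b * z.im * z'.im

theorem h_vv (z z' : LL a b) : (HO (minusForm m F a b)).h (vv hab m z) (vv hab m z') = BB z z' :=
  (embMinus m F a b hab).h_eq _ _

theorem nZ_vv (x : Fin m × Bool) {z : LL a b} (hz : NN z ≠ 0) (ζ : LL a b) :
    nZ (toFrame (wminus m F a b hab)) x (PP hab m z) (vv hab m ζ) =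
      vv hab m (ζ + (-((NN z)⁻¹ * BB ζ z)) • z) := by
  have hc : (PP hab m z).c ≠ 0 := by rw [PP_c]; exact neg_ne_zero.2 hz
  rw [nZ_apply_V0 _ x _ hc (vv_mem hab m ζ), ← vv_add_smul, PP_w, PP_c]
  congr 2
  change (1 : F)⁻¹ * (-NN z)⁻¹ * (HO (minusForm m F a b)).h (vv hab m ζ) (vv hab m z) = _
  rw [h_vv, inv_one, one_mul, inv_neg, neg_mul]

theorem dZ_vv (x : Fin m × Bool) {k : LL a b} (hk : NN k ≠ 0) (ζ : LL a b) :
    dZ (toFrame (wminus m F a b hab)) x (PP hab m 1) (PP hab m k) (vv hab m ζ) =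
      vv hab m ((NN k)⁻¹ • (k * k * ζ)) := by
  have h1 : NN (1 : LL a b) ≠ 0 := by rw [NN_one]; exact one_ne_zero
  have h3 : nZ (toFrame (wminus m F a b hab)) x (PP hab m 1) (vv hab m ⟨-ζ.re - a * ζ.im, ζ.im⟩) = vv hab m ζ := by
    rw [nZ_vv hab m x h1, NN_one]
    congr 1
    apply QuadraticAlgebra.ext
    · simp only [BB, QuadraticAlgebra.re_add, QuadraticAlgebra.re_smul, QuadraticAlgebra.re_one,
        QuadraticAlgebra.im_one, smul_eq_mul]
      ring
    · simp only [BB, QuadraticAlgebra.im_add, QuadraticAlgebra.im_smul, QuadraticAlgebra.re_one,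
        QuadraticAlgebra.im_one, smul_eq_mul]
      ring
  have h4 : (nZ (toFrame (wminus m F a b hab)) x (PP hab m 1))⁻¹ (vv hab m ζ) =
      vv hab m ⟨-ζ.re - a * ζ.im, ζ.im⟩ := by
    rw [← h3, ← mul_apply', inv_mul_cancel]
    rfl
  rw [dZ, mul_apply', h4, nZ_vv hab m x hk]
  congr 1
  have h5 : NN k * (NN k)⁻¹ = 1 := mul_inv_cancel₀ hk
  have h6 : NN k = k.re ^ 2 + a * k.re * k.im + b * k.im ^ 2 := rfl
  have h7 : (k.re ^ 2 + a * k.re * k.im + b * k.im ^ 2) * (NN k)⁻¹ = 1 := by rw [← h6]; exact h5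
  apply QuadraticAlgebra.ext
  · simp only [BB, QuadraticAlgebra.re_add, QuadraticAlgebra.re_smul, QuadraticAlgebra.re_mul,
      QuadraticAlgebra.im_mul, smul_eq_mul]
    linear_combination (ζ.re + a * ζ.im) * h7
  · simp only [BB, QuadraticAlgebra.im_add, QuadraticAlgebra.im_smul, QuadraticAlgebra.re_mul,
      QuadraticAlgebra.im_mul, smul_eq_mul]
    linear_combination (-ζ.im) * h7

theorem comm_minus [Finite F] (h2 : (2 : F) ≠ 0) (hm : 2 ≤ m) {p : ℕ} [Fact p.Prime] [CharP F p]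
    (hA : Amb (toFrame (wminus m F a b hab)) (E (minusForm m F a b))) :
    ∀ s ∈ Tor (toFrame (wminus m F a b hab)) (E (minusForm m F a b)),
      ∀ t ∈ Tor (toFrame (wminus m F a b hab)) (E (minusForm m F a b)),
      ∀ w ∈ (toFrame (wminus m F a b hab)).V0, s (t w) = t (s w) := by
  have hG : _root_.Cfsg.Agent.LieClassical.OrthTrans.Good (minusForm m F a b) := by
    apply good_of_finite (nondeg_minusForm m F a b hab)
    rw [Module.finrank_fintype_fun_eq_card, Fintype.card_sum, Fintype.card_sum, Fintype.card_fin,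
      Fintype.card_fin]
    omega
  have hAT := AmbT.of_amb hA p
  have hV0 : ∀ g ∈ Tor (toFrame (wminus m F a b hab)) (E (minusForm m F a b)),
      ∀ w ∈ (toFrame (wminus m F a b hab)).V0, g w ∈ (toFrame (wminus m F a b hab)).V0 :=
    fun g hg w hw => hAT.map_V0 hg.1 hg.2 (ρ := id) (fun _ => rfl) hw
  intro s hs t ht w hw
  obtain ⟨x, z, hs0, hs1⟩ := H716.RGDAb.exists_rot hab h2 hG hV0 hs
  obtain ⟨x', z', ht0, ht1⟩ := H716.RGDAb.exists_rot hab h2 hG hV0 ht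
  have hw' : ∀ j, w (Sum.inl j) = 0 := hw
  have hwe : w = w (Sum.inr 0) • H716.RGDAb.e0 m F + w (Sum.inr 1) • H716.RGDAb.e1 m F := by
    funext j
    rcases j with j | j
    · rw [hw']; simp [H716.RGDAb.e0, H716.RGDAb.e1]
    · fin_cases j
      · simp [H716.RGDAb.e0, H716.RGDAb.e1]
      · simp [H716.RGDAb.e0, H716.RGDAb.e1]
  have c0 : s (t (H716.RGDAb.e0 m F)) = t (s (H716.RGDAb.e0 m F)) := by
    rw [ht0, hs0, map_add, map_smul, map_smul, map_add, map_smul, map_smul, ht0, ht1, hs0, hs1]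
    simp only [smul_add, smul_smul]
    module
  have c1 : s (t (H716.RGDAb.e1 m F)) = t (s (H716.RGDAb.e1 m F)) := by
    rw [ht1, hs1, map_add, map_smul, map_smul, map_add, map_smul, map_smul, ht0, ht1, hs0, hs1]
    simp only [smul_add, smul_smul]
    module
  rw [hwe]
  simp only [map_add, map_smul]
  rw [c0, c1]

/-- **`PΩ⁻_{2m+2}(F)`**, `m ≥ 3` -/
theorem hasIn_pminus {F : Type*} [Field F] [Finite F] {m : ℕ} {a b : F}
    (hab : ∀ z₁ z₂ : F, z₁ ^ 2 + a * z₁ * z₂ + b * z₂ ^ 2 = 0 → z₁ = 0 ∧ z₂ = 0)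
    (h2 : (2 : F) ≠ 0) (hm : 3 ≤ m) {p : ℕ} [Fact p.Prime] [CharP F p] :
    HasIn p (CoxeterMatrix.B m) (Cfsg.POmega F (Cfsg.quadFormMinus m F a b)) := by
  rw [← coe_minusForm]
  have hG : _root_.Cfsg.Agent.LieClassical.OrthTrans.Good (minusForm m F a b) := by
    apply good_of_finite (nondeg_minusForm m F a b hab)
    rw [Module.finrank_fintype_fun_eq_card, Fintype.card_sum, Fintype.card_sum, Fintype.card_fin,
      Fintype.card_fin]
    omega
  have hA := amb_O_of_two (wminus m F a b hab) h2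
  have hp : (PP hab m 1).c ≠ 0 := by rw [PP_c, NN_one]; exact neg_ne_zero.2 one_ne_zero
  have hfin : Finite (LL a b) := Finite.of_equiv _ (QuadraticAlgebra.equivProd (-b) a).symm
  have hP0 : ∀ u : (LL a b)ˣ, (PP hab m (u : LL a b)).c ≠ 0 := fun u => by
    rw [PP_c]
    exact neg_ne_zero.2 (NN_unit u)
  have hvinj : Function.Injective (vv hab m) := by
    intro z z' h
    apply QuadraticAlgebra.ext
    · exact congrFun h (Sum.inr 0)
    · exact congrFun h (Sum.inr 1)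
  refine hasIn_C (model (wminus m F a b hab) hG ⟨_, hp⟩) hA h2 hp (by omega)
    (comm_minus hab m h2 (by omega) (p := p) hA) (nofix_orth _ _ hA hm h2 (fun _ => rfl) rfl)
    (K := (LL a b)ˣ) (fun u => PP hab m (u : LL a b)) (fun u u' h => ?_) hP0 (fun q hq => ?_) (fun x k k' => ?_)
  · exact Units.ext (hvinj (congrArg Frame.Adm.w h))
  · obtain ⟨z, hz⟩ := exists_vv hab m ((toFrame (wminus m F a b hab)).ok_mem q.ok)
    have hqc : q.c = -NN z := by
      rw [← PP_c hab m z, (PP hab m z).ok.2, q.ok.2, PP_w, hz]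
    have hz0 : NN z ≠ 0 := by
      intro h
      apply hq
      rw [hqc, h, neg_zero]
    obtain ⟨u, rfl⟩ := exists_unit hz0
    exact ⟨u, Frame.Adm.ext (by rw [PP_w, hz]) (by rw [PP_c, hqc])⟩
  · refine dZ_mul_of hA x hp (hP0 k) (hP0 k') (hP0 _) ?_ fun v hv => ?_
    · rw [PP_c, PP_c, PP_c, PP_c, NN_one, Units.val_mul, NN_mul]
      ring
    · obtain ⟨ζ, rfl⟩ := exists_vv hab m hv
      rw [dZ_vv hab m x (NN_unit _), dZ_vv hab m x (NN_unit _), dZ_vv hab m x (NN_unit _)]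
      congr 1
      rw [Units.val_mul, NN_mul, mul_smul_comm, smul_smul, mul_inv]
      congr 1
      ring

end Cfsg.Agent.H69.OQ

private theorem dce_b39926f1d4a0 : _root_.True := by
  try have : _root_.True := by simp only [_root_.Cfsg.Agent.H69.OQ.NN.eq_1]
  try have : _root_.True := by simp only [_root_.Cfsg.Agent.H69.OQ.BB.eq_1]
  exact _root_.True.intro
end

-- part: H428/OQ/SU
section
prune_inst 0x6000000040000000000000000002004400000000040000001000020000000000000000000000000000000000004000000000000000000100000000000000000000000000000000000000000000000000000000000000000000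
set_option linter.all false
open scoped Cfsg.Agent.FastGrp

-- part: H69/OQ/SUThree
section
/-!
# S4884, `r` odd: `NoFix` for `PSU_3(q)` (helper69)

* `exists_torus` : the torus elements `diag(l, (σ l)⁻¹; l ^ q / l on V0)` of a unitary Witt frame with `V0 = ⟨d⟩`;
* **`nf_psu3`**, `nf_psu_all` (`N ≥ 3`).
-/

set_option autoImplicit false
set_option linter.unusedSectionVars false

namespace Cfsg.Agent.H69.OQ

open Cfsg Cfsg.Agent.LieClassical.HermBasic Cfsg.Agent.LieClassical.HermGen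
  Cfsg.Agent.LieClassical.HermSiegel
open CoxeterSystem Cfsg.Agent.ChevalleyStructure.CoxeterGeom Cfsg.Agent.Tits.Roots Cfsg.Agent.Nodes.TypeC
open Cfsg.Agent.Nodes.Comb Cfsg.Agent.Nodes.Reps Cfsg.Agent.Nodes.WittRoot Cfsg.Agent.Nodes.BNOf
open Cfsg.Agent.Nodes.WittRGD Cfsg.Agent.Nodes.RGDLib
open Cfsg.Agent.Nodes Cfsg.Agent.Nodes.WittU Cfsg.Agent.Nodes.WittAll
open Cfsg.Agent.TitsThree Cfsg.Agent.TitsThree.Siegel Cfsg.Agent.TitsThree.SiegelGen
  Cfsg.Agent.TitsThree.WittFrame Cfsg.Agent.TitsThree.WBridge Cfsg.Agent.TitsThree.WittWeyl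
  Cfsg.Agent.TitsThree.FrameCN Cfsg.Agent.TitsThree.KSideU Cfsg.Agent.TitsThree.KSideUDesc

variable {F : Type*} [Field F] [Fintype F] {q N : ℕ} (hF : Fintype.card F = q ^ 2) {m : ℕ}

/-- **torus elements of the odd dimensional unitary groups** -/
theorem exists_torus (W : WFrame (PU hF N) m) {d : Fin N → F} (hd : hermForm N F q d d = 1)
    (hV0 : W.V0 = Submodule.span F {d}) (a : Fin m × Bool) {l : F} (hl : l ≠ 0) :
    ∃ g : (Fin N → F) ≃ₗ[F] (Fin N → F), g ∈ IU F q N ∧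
      g ((toFrame W).b a) = l • (toFrame W).b a ∧
      g ((toFrame W).b (WittFrame.neg a)) = (l ^ q)⁻¹ • (toFrame W).b (WittFrame.neg a) ∧
      (∀ z : Fin m × Bool, z.1 ≠ a.1 → g ((toFrame W).b z) = (toFrame W).b z) ∧
      ∀ v ∈ W.V0, g v = (l ^ q / l) • v := by
  obtain ⟨p, hp0, hpw⟩ := exists_adm hF W
  have hlq : l ^ q ≠ 0 := pow_ne_zero _ hl
  have hpc : p.c ^ q = -p.c := by
    have h1 := p.ok.2
    rw [ok_iff, hpw, herm_zero_left, neg_zero] at h1
    exact eq_neg_of_add_eq_zero_right h1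
  set c' : F := l * p.c ^ q with hc'
  have hpq : p.c ^ q ≠ 0 := pow_ne_zero _ hp0
  have hc0 : c' ≠ 0 := mul_ne_zero hl hpq
  have hcq : c' ^ q = l ^ q * p.c := by
    rw [hc', mul_pow, pow_q_pow_q hF]
  obtain ⟨x, hx⟩ := exists_norm_eq hF (c := -(c' + c' ^ q)) (by
    rw [neg_pow_q hF, add_pow_q hF, pow_q_pow_q hF, add_comm])
  have hok : (toFrame W).ok (x • d) c' := by
    refine ⟨?_, ?_⟩
    · rw [hV0]
      exact Submodule.smul_mem _ _ (Submodule.mem_span_singleton_self d)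
    · rw [ok_iff, herm_smul_left, herm_smul_right, hd, mul_one, hx, _root_.neg_neg]
  let p' : (toFrame W).Adm := ⟨x • d, c', hok⟩
  have hη := (toFrame W).η_ne a
  refine ⟨nZ (toFrame W) a p' * nZ (toFrame W) a p, ?_, ?_, ?_, ?_, ?_⟩
  · exact mul_mem (nZ_mem (amb_U hF W) _ _) (nZ_mem (amb_U hF W) _ _)
  · rw [mul_apply', nZ_apply_self (toFrame W) a p hp0, map_smul, nZ_apply_neg (toFrame W) a p' hc0, smul_smul]
    congr 1
    change (1 : F) * ((toFrame W).η a)⁻¹ * (p.c ^ q)⁻¹ * ((toFrame W).η a * c') = l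
    rw [hc']
    field_simp
  · rw [mul_apply', nZ_apply_neg (toFrame W) a p hp0, map_smul, nZ_apply_self (toFrame W) a p' hc0, smul_smul]
    congr 1
    change ((toFrame W).η a * p.c) * ((1 : F) * ((toFrame W).η a)⁻¹ * (c' ^ q)⁻¹) = (l ^ q)⁻¹
    rw [hcq]
    field_simp
  · intro z hz
    rw [mul_apply', nZ_apply_of_ne (toFrame W) hz, nZ_apply_of_ne (toFrame W) hz]
  · intro v hv
    rw [mul_apply', nZ_apply_V0 (toFrame W) a p hp0 hv, hpw, smul_zero, add_zero,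
      nZ_apply_V0 (toFrame W) a p' hc0 hv]
    rw [hV0] at hv
    obtain ⟨y, rfl⟩ := Submodule.mem_span_singleton.1 hv
    change y • d + ((1 : F)⁻¹ * c'⁻¹ * hermForm N F q (y • d) (x • d)) • x • d = (l ^ q / l) • y • d
    rw [herm_smul_left, herm_smul_right, hd, smul_smul, smul_smul, ← add_smul]
    congr 1
    have h1 : x * x ^ q = -(c' + c' ^ q) := hx
    have h2 : (1 : F)⁻¹ * c'⁻¹ * (y * (x ^ q * 1)) * x = c'⁻¹ * y * (x * x ^ q) := by ring
    rw [h2, h1, hcq]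
    have h3 : c' = -(l * p.c) := by rw [hc', hpc]; ring
    rw [h3]
    field_simp
    ring

/-- **`PSU_3(q)`, `q` odd** -/
theorem nofix_psu3 (hq : Odd q) (W : WFrame (PU hF 3) 1) {d : Fin 3 → F} (hd : hermForm 3 F q d d = 1)
    (hV0 : W.V0 = Submodule.span F {d}) {G : Type*} [Group G] (cs : CoxeterSystem (CoxeterMatrix.B 1) G) :
    NoFix cs (isCartan 1) (WittModel.T (KInstU.model hF le_rfl W)) (WittModel.X (KInstU.model hF le_rfl W)) := by
  obtain ⟨t, k, ht, htq⟩ := exists_two_elt hF hq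
  have ht0 : t ≠ 0 := by
    rintro rfl
    rw [zero_pow (by positivity)] at ht
    exact zero_ne_one ht
  have ht1 : t ≠ 1 := by
    rintro rfl
    rw [one_pow, one_mul] at htq
    exact htq rfl
  have hone : ∀ i j : Fin 1, i = j := fun i j => Subsingleton.elim i j
  have hA := amb_U hF W
  refine nofix_of (KInstU.model hF le_rfl W) cs hA (fun a b hab => absurd (hone _ _) hab) (fun a p hp => ?_)
  obtain ⟨g, hg, h1, h2, -, h4⟩ := exists_torus hF W hd hV0 a ht0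
  have hm : Mono (toFrame W) g id := by
    intro z
    rcases eq_or_ng (hone z.1 a.1) with rfl | rfl
    · exact ⟨t, ht0, h1⟩
    · exact ⟨(t ^ q)⁻¹, inv_ne_zero (pow_ne_zero _ ht0), h2⟩
  have key : ∀ (v : Fin 3 → F) (l : F), g v = l • v → ∀ j : ℕ, (g ^ j) v = l ^ j • v := by
    intro v l hl j
    induction j with
    | zero => rw [pow_zero, pow_zero, one_smul]; rfl
    | succ j ih => rw [pow_succ, mul_apply', hl, map_smul, ih, smul_smul, pow_succ, mul_comm]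
  have hpow : g ^ 2 ^ k = 1 := by
    refine Cfsg.Agent.Nodes.WittRGD.Amb.eq_one_of_fix hA (fun z => ?_) (fun w hw => ?_)
    · rcases eq_or_ng (hone z.1 a.1) with rfl | rfl
      · rw [key _ _ h1, ht, one_smul]
      · rw [key ((toFrame W).b (ng a)) _ h2, inv_pow, ← pow_mul, mul_comm q, pow_mul, ht, one_pow, inv_one, one_smul]
    · rw [key _ _ (h4 w hw), div_pow, ← pow_mul, mul_comm q, pow_mul, ht, one_pow, div_one, one_smul]
  obtain ⟨r, hr, hr'⟩ := hA.exists_adm hg hm (ρ := id) (fun _ => rfl) p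
  refine ⟨g, t, r, hg, hm, ⟨k, hpow⟩, h1, hr, hr', ?_⟩
  intro h5
  have hw := congrArg Frame.Adm.w h5
  have hc := congrArg Frame.Adm.c h5
  rw [Frame.Adm.smul_w, ← hr, h4 _ p.ok.1] at hw
  rw [Frame.Adm.smul_c, ← hr', (HU hF 3).σσ] at hc
  change t ^ q • (t ^ q / t) • p.w = p.w at hw
  change t ^ q * t * p.c = p.c at hc
  apply hp
  have hw0 : p.w = 0 := by
    rw [smul_smul] at hw
    have h6 : (t ^ q * (t ^ q / t) - 1) • p.w = 0 := by rw [sub_smul, hw, one_smul, sub_self]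
    refine (smul_eq_zero.1 h6).resolve_left fun h7 => ?_
    have h8 : t ^ q * (t ^ q / t) = 1 := sub_eq_zero.1 h7
    have h9 : t ^ (2 * q) = t := by
      field_simp at h8
      rw [mul_comm 2, pow_mul]
      exact h8
    have hq1 : 1 ≤ 2 * q := by
      obtain ⟨s, rfl⟩ := hq
      omega
    have h10 : t ^ (2 * q - 1) = 1 := by
      apply mul_right_cancel₀ ht0
      rw [← pow_succ, Nat.sub_add_cancel hq1, h9, one_mul]
    have h11 := orderOf_dvd_of_pow_eq_one h10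
    have h12 := orderOf_dvd_of_pow_eq_one ht
    have h13 : Nat.Coprime (2 ^ k) (2 * q - 1) := by
      apply Nat.Coprime.pow_left
      rw [Nat.coprime_two_left]
      exact ⟨q - 1, by omega⟩
    have h14 := Nat.eq_one_of_dvd_coprimes h13 h12 h11
    exact ht1 (orderOf_eq_one_iff.1 h14)
  have hc0 : p.c = 0 := by
    by_contra h3
    have h6 : t ^ q * t = 1 := mul_right_cancel₀ h3 (hc.trans (one_mul _).symm)
    exact htq (by rw [mul_comm]; exact h6)
  exact Frame.Adm.ext hw0 hc0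

end Cfsg.Agent.H69.OQ
end

-- part: H69/OQ/InOdd
section
/-!
# S4884, own odd characteristic: `HasInB` for the unitary groups of odd degree, from the last node (helper69)
-/

set_option autoImplicit false
set_option linter.unusedSectionVars false

namespace Cfsg.Agent.H69.OQ

open Cfsg Cfsg.Agent.LieClassical.HermBasic Cfsg.Agent.LieClassical.HermGen
  Cfsg.Agent.LieClassical.HermSiegel
open CoxeterSystem Cfsg.Agent.ChevalleyStructure.CoxeterGeom Cfsg.Agent.Tits.Roots Cfsg.Agent.Nodes.TypeC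
open Cfsg.Agent.Nodes.Comb Cfsg.Agent.Nodes.Reps Cfsg.Agent.Nodes.WittRoot Cfsg.Agent.Nodes.BNOf
open Cfsg.Agent.Nodes.WittRGD Cfsg.Agent.Nodes.RGDLib Cfsg.Agent.H684.OQ
open Cfsg.Agent.Nodes Cfsg.Agent.Nodes.WittU Cfsg.Agent.Nodes.WittAll
open Cfsg.Agent.TitsThree Cfsg.Agent.TitsThree.Siegel Cfsg.Agent.TitsThree.SiegelGen
  Cfsg.Agent.TitsThree.WittFrame Cfsg.Agent.TitsThree.WBridge Cfsg.Agent.TitsThree.WittWeyl
  Cfsg.Agent.TitsThree.FrameCN Cfsg.Agent.TitsThree.KSideU Cfsg.Agent.TitsThree.KSideUDesc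

/-- **`PSU_{2m+1}(q)`**, `m ≥ 1`, `q` odd, from the last node -/
theorem inB_psu_odd {F : Type*} [Field F] [Fintype F] {q m : ℕ} (hF : Fintype.card F = q ^ 2) (hq : Odd q)
    (hm : 1 ≤ m) {p : ℕ} [Fact p.Prime] [CharP F p] (W : WFrame (PU hF (2 * m + 1)) m) {d : Fin (2 * m + 1) → F}
    (hd : hermForm (2 * m + 1) F q d d = 1) (hV0 : W.V0 = Submodule.span F {d}) {p0 : (toFrame W).Adm}
    (hp0 : p0.c ≠ 0)
    (hmem : ∀ i, WittRGD.nn (toFrame W) p0 i ∈ (KInstU.model hF (by omega) W).I)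
    (hlast : ∀ i : Fin m, ¬ (i : ℕ) + 1 < m → SUNode (WittModel.T (KInstU.model hF (by omega) W))
      (fun i => (KInstU.model hF (by omega) W).φ ⟨WittRGD.nn (toFrame W) p0 i, hmem i⟩)
      (WittModel.X (KInstU.model hF (by omega) W)) i) :
    HasInB p (CoxeterMatrix.B m) (PSU (2 * m + 1) F q) := by
  have h2 : (2 : F) ≠ 0 := two_ne_of_odd (by rw [hF]; exact hq.pow)
  have hA := amb_U hF W
  have hAT := AmbT.of_amb hA p
  set M := KInstU.model hF (by omega) W with hM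
  have R := rgdC_model M hAT hp0 (CoxeterMatrix.B m).toCoxeterSystem
  have hline : ∃ w0 : Fin (2 * m + 1) → F, ∀ w ∈ (toFrame W).V0, ∃ a : F, w = a • w0 := by
    refine ⟨d, fun w hw => ?_⟩
    have hw' : w ∈ W.V0 := hw
    rw [hV0] at hw'
    obtain ⟨y, rfl⟩ := Submodule.mem_span_singleton.1 hw'
    exact ⟨y, rfl⟩
  refine ⟨TypeC.A m, isCartan m, WittModel.T M, _, WittModel.X M,
    TypeC.finite_W (CoxeterMatrix.B m).toCoxeterSystem, R, ?_, ?_, ?_, ?_, twFaithful_C M _ hA h2 R⟩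
  · exact H905.Md.gg_top (WittModel.G1_eq_top M hm _)
  · rintro _ ⟨s, hs, rfl⟩ _ ⟨t, ht, rfl⟩
    simp only [← map_mul, ← map_mul M.φ]
    congr 1
    exact Subtype.ext (H716.RGDAb.tor_comm_of hA.V0 (Subgroup.mem_subgroupOf.1 hs) (Subgroup.mem_subgroupOf.1 ht)
      (H716.RGDAb.comm_V0_of_line hAT hline (Subgroup.mem_subgroupOf.1 hs) (Subgroup.mem_subgroupOf.1 ht)))
  · rcases Nat.lt_or_ge 1 m with h1 | h1
    · obtain ⟨t, k, ht, htq⟩ := exists_two_elt hF hq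
      exact nofix_tt M _ hA h1 ht htq
    · obtain rfl : m = 1 := by omega
      exact nofix_psu3 hF hq W hd hV0 _
  · intro i
    by_cases hi : (i : ℕ) + 1 < m
    · exact Or.inl (slNode_X M hA hi _)
    · exact Or.inr (hlast i hi)

end Cfsg.Agent.H69.OQ
end

-- part: H428/OQ/SUSum
section
/-!
# S4884, own odd characteristic: sums over the norm one parameters of a node of type `SU_3` (helper428)

* `card_nrm` : the number of `x` with `x * x ^ q = -(c + c ^ q)`;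
* `card_tr0` : the number of `c` with `c + c ^ q = 0`;
* `sum_pairs` : `∑ g c` over the pairs `(x, c)` with `x * x ^ q = -(c + c ^ q)`;
* `chi_fixed`, **`sum_chi`** : the sum of a character of order `2` over these pairs.
-/

set_option autoImplicit false

namespace Cfsg.Agent.H428.OQ

open Cfsg.Agent.LieClassical.HermBasic

variable {F : Type*} [Field F] [Fintype F] {q : ℕ}

theorem card_nrm [DecidableEq F] (hF : Fintype.card F = q ^ 2) (c : F) :
    (Finset.univ.filter fun x : F => x * x ^ q = -(c + c ^ q)).card = if c + c ^ q = 0 then 1 else q + 1 := by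
  split_ifs with h
  · have h1 : (Finset.univ.filter fun x : F => x * x ^ q = -(c + c ^ q)) = {0} := by
      ext x
      rw [Finset.mem_filter, Finset.mem_singleton, h, neg_zero, norm_eq_zero hF]
      simp
    rw [h1, Finset.card_singleton]
  · have h1 := card_norm_eq hF (c := -(c + c ^ q)) (by rw [neg_pow_q hF, trace_pow_q hF]) (neg_ne_zero.2 h)
    rw [← h1, Nat.card_eq_fintype_card, Fintype.card_subtype]

theorem card_tr0 [DecidableEq F] (hF : Fintype.card F = q ^ 2) {c0 : F} (h0 : c0 ≠ 0) (hc : c0 ^ q = -c0) :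
    (Finset.univ.filter fun c : F => c + c ^ q = 0).card = q := by
  rw [← Fintype.card_subtype, ← Nat.card_eq_fintype_card]
  have e : {c : F // c + c ^ q = 0} ≃ {x : F // x ^ q = x} :=
    { toFun := fun c => ⟨c.1 * c0⁻¹, by
        have h1 : c.1 ^ q = -c.1 := eq_neg_of_add_eq_zero_right c.2
        rw [mul_pow, inv_pow, hc, h1, inv_neg, neg_mul_neg]⟩
      invFun := fun x => ⟨x.1 * c0, by rw [mul_pow, hc, x.2, mul_neg, add_neg_cancel]⟩
      left_inv := fun c => Subtype.ext (inv_mul_cancel_right₀ h0 _)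
      right_inv := fun x => Subtype.ext (mul_inv_cancel_right₀ h0 _) }
  exact (Nat.card_congr e).trans (card_fixed hF)

/-- the sum of a function of `c` over the pairs `(x, c)` with `x * x ^ q = -(c + c ^ q)` -/
theorem sum_pairs [DecidableEq F] (hF : Fintype.card F = q ^ 2) (g : F → ℂ) :
    ∑ y : {y : F × F // y.1 * y.1 ^ q = -(y.2 + y.2 ^ q)}, g y.1.2 =
      (q + 1) * ∑ c, g c - q * ∑ c ∈ Finset.univ.filter fun c : F => c + c ^ q = 0, g c := by
  have h1 : ∑ y : {y : F × F // y.1 * y.1 ^ q = -(y.2 + y.2 ^ q)}, g y.1.2 =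
      ∑ y : F × F, if y.1 * y.1 ^ q = -(y.2 + y.2 ^ q) then g y.2 else 0 := by
    rw [← Finset.sum_filter]
    exact (Finset.sum_subtype (p := fun y : F × F => y.1 * y.1 ^ q = -(y.2 + y.2 ^ q)) _
      (fun y => by simp) (fun y : F × F => g y.2)).symm
  rw [h1, Fintype.sum_prod_type_right, Finset.mul_sum, Finset.mul_sum, Finset.sum_filter, ← Finset.sum_sub_distrib]
  refine Finset.sum_congr rfl fun c _ => ?_
  dsimp only
  rw [← Finset.sum_filter, Finset.sum_const, card_nrm hF]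
  split_ifs with h
  · rw [one_smul]; ring
  · rw [nsmul_eq_mul]; push_cast; ring

/-- a character of order `2` is trivial on the subfield -/
theorem chi_fixed (hF : Fintype.card F = q ^ 2) (hq : Odd q) (χ : MulChar F ℂ) (hχ : ∀ u, u ≠ 0 → χ u * χ u = 1)
    {y : F} (hy : y ^ q = y) (h0 : y ≠ 0) : χ y = 1 := by
  obtain ⟨x, hx⟩ := exists_norm_eq hF hy
  obtain ⟨k, rfl⟩ := hq
  have hx0 : x ≠ 0 := by
    rintro rfl
    rw [zero_mul] at hx
    exact h0 hx.symm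
  have h1 : y = x ^ (k + 1) * x ^ (k + 1) := by
    rw [← hx]; ring
  rw [h1, map_mul]
  exact hχ _ (pow_ne_zero _ hx0)

/-- **the sum of a character of order `2` over the pairs `(x, c)`** -/
theorem sum_chi (hF : Fintype.card F = q ^ 2) (hq : Odd q) (χ : MulChar F ℂ) (hχ : ∀ u, u ≠ 0 → χ u * χ u = 1)
    (hne : χ ≠ 1) {c0 : F} (h0 : c0 ≠ 0) (hc : c0 ^ q = -c0) [Fintype {y : F × F // y.1 * y.1 ^ q = -(y.2 + y.2 ^ q)}] :
    ∑ y : {y : F × F // y.1 * y.1 ^ q = -(y.2 + y.2 ^ q)}, χ (y.1.2 * c0⁻¹) = -(q * (q - 1)) := by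
  classical
  have h1 := sum_pairs hF (fun c => χ (c * c0⁻¹))
  have h2 : ∑ c, χ (c * c0⁻¹) = 0 := by
    rw [← MulChar.sum_eq_zero_of_ne_one hne]
    exact Fintype.sum_equiv (Equiv.mulRight₀ c0⁻¹ (inv_ne_zero h0)) _ _ (fun c => rfl)
  have h3 : ∑ c ∈ Finset.univ.filter (fun c : F => c + c ^ q = 0), χ (c * c0⁻¹) = q - 1 := by
    have h5 : (0 : F) ∈ Finset.univ.filter (fun c : F => c + c ^ q = 0) := by
      rw [Finset.mem_filter]
      exact ⟨Finset.mem_univ _, by rw [zero_pow_q hF, add_zero]⟩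
    rw [← Finset.add_sum_erase _ _ h5, zero_mul, MulChar.map_zero, zero_add]
    have h6 : ∀ c ∈ (Finset.univ.filter (fun c : F => c + c ^ q = 0)).erase 0, χ (c * c0⁻¹) = 1 := by
      intro c hc'
      rw [Finset.mem_erase, Finset.mem_filter] at hc'
      refine chi_fixed hF hq χ hχ ?_ (mul_ne_zero hc'.1 (inv_ne_zero h0))
      have h7 : c ^ q = -c := eq_neg_of_add_eq_zero_right hc'.2.2
      rw [mul_pow, inv_pow, hc, h7, inv_neg, neg_mul_neg]
    rw [Finset.sum_congr rfl h6, Finset.sum_const, Finset.card_erase_of_mem h5, card_tr0 hF h0 hc, nsmul_eq_mul,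
      mul_one, Nat.cast_sub (q_pos hF), Nat.cast_one]
  have h4 : ∑ y : {y : F × F // y.1 * y.1 ^ q = -(y.2 + y.2 ^ q)}, χ (y.1.2 * c0⁻¹) =
      (q + 1) * ∑ c, χ (c * c0⁻¹) - q * ∑ c ∈ Finset.univ.filter fun c : F => c + c ^ q = 0, χ (c * c0⁻¹) := by
    convert h1
  rw [h4, h2, h3]
  ring

/-- the number of pairs `(x, c)` -/
theorem card_pairs (hF : Fintype.card F = q ^ 2) {c0 : F} (h0 : c0 ≠ 0) (hc : c0 ^ q = -c0) :
    Nat.card {y : F × F // y.1 * y.1 ^ q = -(y.2 + y.2 ^ q)} = q ^ 3 := by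
  classical
  have h1 := sum_pairs hF (fun _ => (1 : ℂ))
  have h3 : ∑ c ∈ Finset.univ.filter (fun c : F => c + c ^ q = 0), (1 : ℂ) = q := by
    rw [Finset.sum_const, card_tr0 hF h0 hc, nsmul_eq_mul, mul_one]
  have h4 : (Finset.univ : Finset F).sum (fun _ => (1 : ℂ)) = (q : ℂ) ^ 2 := by
    rw [Finset.sum_const, Finset.card_univ, hF, nsmul_eq_mul, mul_one]
    push_cast
    rfl
  rw [h3, h4, Finset.sum_const, Finset.card_univ, nsmul_eq_mul, mul_one, ← Nat.card_eq_fintype_card] at h1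
  have h2 : ((Nat.card {y : F × F // y.1 * y.1 ^ q = -(y.2 + y.2 ^ q)} : ℕ) : ℂ) = ((q ^ 3 : ℕ) : ℂ) := by
    rw [h1]
    push_cast
    ring
  exact_mod_cast h2

end Cfsg.Agent.H428.OQ
end

-- part: H428/OQ/SU
section
/-!
# S4884, own odd characteristic: the last node of the Witt frame of `PSU_N(q)`, `N` odd, is of type `SU_3` (helper428)

* `Line` : a Witt frame with the anisotropic part a line `⟨d⟩`, `h d d = 1`, `σ x = x ^ q`, `ε = 1`;
* **`suNode_line`** : the last node is a `SUNode`; **`suNode_psu`** : for the model of `PSU`;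
* **`hasInB_psu_odd`** : `HasInB p (B m) (PSU (2 m + 1) F q)`, `m ≥ 1`, `q` odd.
-/

set_option autoImplicit false
set_option linter.unusedSectionVars false

namespace Cfsg.Agent.H428.OQ

open Cfsg Cfsg.Agent.LieClassical.HermBasic
open CoxeterSystem Cfsg.Agent.ChevalleyStructure.CoxeterGeom Cfsg.Agent.Tits.Roots Cfsg.Agent.Nodes.TypeC
open Cfsg.Agent.Nodes Cfsg.Agent.Nodes.Comb Cfsg.Agent.Nodes.Reps Cfsg.Agent.Nodes.WittRoot Cfsg.Agent.Nodes.BNOf
open Cfsg.Agent.Nodes.WittRGD Cfsg.Agent.Nodes.RGDLib Cfsg.Agent.H684.OQ Cfsg.Agent.H69.OQ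
open Cfsg.Agent.TitsThree Cfsg.Agent.TitsThree.Siegel Cfsg.Agent.TitsThree.WittFrame
  Cfsg.Agent.TitsThree.WittWeyl Cfsg.Agent.TitsThree.FrameCN

variable {F : Type*} [Field F] {V : Type*} [AddCommGroup V] [Module F V] {H : HForm F V} {n : ℕ}
  (Fr : Frame H (Fin n))

/-- the anisotropic part of the frame is a line -/
structure Line (q : ℕ) (d : V) : Prop where
  σ : ∀ x, H.σ x = x ^ q
  ε : H.ε = 1
  mem : d ∈ Fr.V0
  one : H.h d d = 1
  span : ∀ w ∈ Fr.V0, ∃ x : F, w = x • d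
  ok : ∀ w ∈ Fr.V0, ∀ c, c + c ^ q = -H.h w w → Fr.ok w c

variable {Fr} [Fintype F] {q : ℕ} {d : V}

section basic

variable (hF : Fintype.card F = q ^ 2) (D : Line Fr q d)

include D

theorem Line.ne_zero : d ≠ 0 := by
  rintro rfl
  have h := D.one
  rw [H.zero_left] at h
  exact zero_ne_one h

theorem Line.h_smul (x y : F) : H.h (x • d) (y • d) = x * y ^ q := by
  rw [H.smul_left, H.smul_right, D.one, D.σ, mul_one]

/-- the pair `(x d, c)` -/
def Line.mk' (x c : F) (h : x * x ^ q = -(c + c ^ q)) : Fr.Adm :=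
  ⟨x • d, c, D.ok _ (Fr.V0.smul_mem x D.mem) _ (by rw [D.h_smul, h, _root_.neg_neg])⟩

/-- the pairs `(x, c)` -/
noncomputable def Line.equiv : {y : F × F // y.1 * y.1 ^ q = -(y.2 + y.2 ^ q)} ≃ Fr.Adm :=
  Equiv.ofBijective (fun y => D.mk' y.1.1 y.1.2 y.2) (by
    constructor
    · intro y y' h
      have h1 : y.1.1 • d = y'.1.1 • d := congrArg Frame.Adm.w h
      have h2 : y.1.2 = y'.1.2 := congrArg Frame.Adm.c h
      exact Subtype.ext (Prod.ext (smul_left_injective F D.ne_zero h1) h2)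
    · intro p
      obtain ⟨x, hx⟩ := D.span p.w (Fr.ok_mem p.ok)
      refine ⟨⟨(x, p.c), ?_⟩, Frame.Adm.ext hx.symm rfl⟩
      have h1 := p.herm
      rw [D.ε, one_mul, D.σ, hx, D.h_smul] at h1
      exact (neg_eq_iff_eq_neg.1 h1.symm))

theorem Line.equiv_c (y) : (D.equiv y).c = y.1.2 := rfl

theorem Line.herm (p : Fr.Adm) : p.c + p.c ^ q = -H.h p.w p.w := by
  have h1 := p.herm
  rwa [D.ε, one_mul, D.σ] at h1

theorem Line.c_pow {p : Fr.Adm} (hp : p.w = 0) : p.c ^ q = -p.c := by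
  have h1 := D.herm p
  rw [hp, H.zero_left, neg_zero] at h1
  exact eq_neg_of_add_eq_zero_right h1

include hF

theorem Line.exists_c {c : F} : ∃ p : Fr.Adm, p.c = c := by
  obtain ⟨x, hx⟩ := exists_norm_eq hF (c := -(c + c ^ q)) (by rw [neg_pow_q hF, trace_pow_q hF])
  exact ⟨D.mk' x c hx, rfl⟩

theorem Line.exists_w (x : F) : ∃ p : Fr.Adm, p.w = x • d := by
  obtain ⟨c, hc⟩ := exists_trace_eq hF (c := -(x * x ^ q)) (by rw [neg_pow_q hF, norm_pow_q hF])
  exact ⟨D.mk' x c (by rw [hc, _root_.neg_neg]), rfl⟩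

theorem Line.eq_one {p : Fr.Adm} (hc : p.c = 0) : p = 1 := by
  obtain ⟨x, hx⟩ := D.span p.w (Fr.ok_mem p.ok)
  have h1 := D.herm p
  rw [hc, zero_pow_q hF, add_zero, hx, D.h_smul, zero_eq_neg, norm_eq_zero hF] at h1
  refine Frame.Adm.ext ?_ hc
  rw [hx, h1, zero_smul]
  rfl

end basic

/-! ### The torus elements `dZ a p0 p` -/

section tor

variable (hF : Fintype.card F = q ^ 2) (D : Line Fr q d) {G0 : Subgroup (V ≃ₗ[F] V)} (hA : Amb Fr G0)
  (a : Fin n × Bool) {p0 : Fr.Adm} (hp0 : p0.c ≠ 0) (hw0 : p0.w = 0)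

include D hp0 hw0

theorem nZ_p0_V0 {v : V} (hv : v ∈ Fr.V0) : nZ Fr a p0 v = v := by
  rw [nZ_apply_V0 Fr a p0 hp0 hv, hw0, smul_zero, add_zero]

theorem dZ_V0 {p : Fr.Adm} (hp : p.c ≠ 0) {v : V} (hv : v ∈ Fr.V0) :
    dZ Fr a p0 p v = (-(p.c ^ q / p.c)) • v := by
  have h1 : (nZ Fr a p0)⁻¹ v = v := by
    nth_rewrite 1 [← nZ_p0_V0 D a hp0 hw0 hv]
    rw [← mul_apply', inv_mul_cancel]
    rfl
  obtain ⟨y, rfl⟩ := D.span v hv
  obtain ⟨x, hx⟩ := D.span p.w (Fr.ok_mem p.ok)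
  have h2 := D.herm p
  rw [hx, D.h_smul] at h2
  rw [dZ, mul_apply', h1, nZ_apply_V0 Fr a p hp hv, hx, D.h_smul, D.ε, smul_smul, smul_smul, ← add_smul]
  congr 1
  field_simp
  linear_combination y * h2

include hA

/-- `dZ a p0 p` depends only on `p.c` -/
theorem dZ_congr {p p' : Fr.Adm} (hp : p.c ≠ 0) (h : p.c = p'.c) : dZ Fr a p0 p = dZ Fr a p0 p' := by
  have hp' : p'.c ≠ 0 := h ▸ hp
  refine ext_of hA (fun z => ?_) fun w hw => ?_
  · by_cases h1 : z.1 = a.1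
    · rcases eq_or_ng h1 with rfl | rfl
      · rw [dZ_a hp0 hp, dZ_a hp0 hp', h]
      · have e1 : dZ Fr a p0 p (Fr.b (ng a)) = _ := dZ_na hp0 hp
        have e2 : dZ Fr a p0 p' (Fr.b (ng a)) = _ := dZ_na hp0 hp'
        rw [e1, e2, h]
    · rw [dZ_ne h1, dZ_ne h1]
  · rw [dZ_V0 D a hp0 hw0 hp hw, dZ_V0 D a hp0 hw0 hp' hw, h]

include hF

theorem dZ_mul {p p' p'' : Fr.Adm} (hp : p.c ≠ 0) (hp' : p'.c ≠ 0) (hp'' : p''.c ≠ 0)
    (hc : p''.c * p0.c = p.c * p'.c) : dZ Fr a p0 p'' = dZ Fr a p0 p * dZ Fr a p0 p' := by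
  refine dZ_mul_of hA a hp0 hp hp' hp'' hc fun v hv => ?_
  rw [dZ_V0 D a hp0 hw0 hp'' hv, dZ_V0 D a hp0 hw0 hp' hv, map_smul, dZ_V0 D a hp0 hw0 hp hv, smul_smul]
  congr 1
  have h1 := congrArg (fun x => x ^ q) hc
  simp only [mul_pow, D.c_pow hw0] at h1
  have h2 : p''.c ^ q * p0.c = -(p.c ^ q * p'.c ^ q) := by linear_combination -h1
  have h3 : p.c * p'.c ≠ 0 := mul_ne_zero hp hp'
  field_simp
  apply mul_right_cancel₀ hp0
  linear_combination (-(p.c * p'.c)) * h2 - (p.c ^ q * p'.c ^ q) * hc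

/-- the square of the last Weyl element -/
theorem nZ_sq : nZ Fr a p0 * nZ Fr a p0 = dZ Fr a p0 p0⁻¹ := by
  have hc : (p0⁻¹ : Fr.Adm).c = -p0.c := by
    rw [Frame.Adm.inv_c, hw0, H.zero_left, mul_zero, sub_zero]
  have hc' : (p0⁻¹ : Fr.Adm).c ≠ 0 := by rw [hc]; exact neg_ne_zero.2 hp0
  have hσ : H.σ p0.c = -p0.c := by rw [D.σ, D.c_pow hw0]
  have hη := Fr.η_ne a
  refine ext_of hA (fun z => ?_) fun w hw => ?_
  · by_cases h1 : z.1 = a.1
    · rcases eq_or_ng h1 with rfl | rfl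
      · rw [dZ_a hp0 hc', hc, mul_apply', nZ_apply_self Fr _ p0 hp0, map_smul, nZ_apply_neg Fr _ p0 hp0, smul_smul, hσ,
          D.ε]
        congr 1
        field_simp
      · have e1 : dZ Fr a p0 p0⁻¹ (Fr.b (ng a)) = _ := dZ_na hp0 hc'
        have e2 : nZ Fr a p0 (Fr.b (ng a)) = _ := nZ_apply_neg Fr a p0 hp0
        rw [e1, mul_apply', e2, map_smul, nZ_apply_self Fr _ p0 hp0, smul_smul, hc, map_neg, hσ, D.ε]
        congr 1
        field_simp
    · rw [dZ_ne h1, mul_apply', nZ_apply_of_ne Fr h1, nZ_apply_of_ne Fr h1]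
  · rw [dZ_V0 D a hp0 hw0 hc' hw, mul_apply', nZ_p0_V0 D a hp0 hw0 hw, nZ_p0_V0 D a hp0 hw0 hw, hc, neg_pow_q hF,
      D.c_pow hw0]
    rw [_root_.neg_neg, div_neg, div_self hp0, _root_.neg_neg, one_smul]

end tor

/-! ### The node -/

section node

variable (hF : Fintype.card F = q ^ 2) (hq : Odd q) (D : Line Fr q d) {K0 : Type*} [Group K0] (M : Model Fr K0)
  (hA : Amb Fr M.I) {p0 : Fr.Adm} (hp0 : p0.c ≠ 0) (hw0 : p0.w = 0)

/-- the root group of the last node as the image of the group of admissible pairs -/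
def rho (a : Fin n × Bool) : Fr.Adm →* K0 :=
  MonoidHom.mk' (fun r => M.φ ⟨Fr.Z a r, M.hZ _ _⟩) fun r s => by
    rw [← map_mul]
    congr 1
    exact Subtype.ext (Fr.Z_mul a r s)

theorem rho_inj (a : Fin n × Bool) : Function.Injective (rho M a) := fun _ _ h => model_Z_inj M h

/-- the pairs with `w = 0` -/
def adm0 (Fr : Frame H (Fin n)) : Subgroup Fr.Adm where
  carrier := {r | r.w = 0}
  one_mem' := rfl
  mul_mem' := fun {r s} (hr : r.w = 0) (hs : s.w = 0) => by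
    show (r * s).w = 0
    rw [Frame.Adm.mul_w, hr, hs, add_zero]
  inv_mem' := fun {r} (hr : r.w = 0) => by
    show (r⁻¹).w = 0
    rw [Frame.Adm.inv_w, hr, neg_zero]

theorem mem_adm0 {r : Fr.Adm} : r ∈ adm0 Fr ↔ r.w = 0 := Iff.rfl

theorem mem_map_adm0 {a : Fin n × Bool} {r : Fr.Adm} : rho M a r ∈ (adm0 Fr).map (rho M a) ↔ r.w = 0 := by
  constructor
  · rintro ⟨s, hs, h⟩
    rw [← rho_inj M a h]
    exact hs
  · intro h
    exact ⟨r, h, rfl⟩

theorem nZ_memI (a : Fin n × Bool) (p : Fr.Adm) : nZ Fr a p ∈ M.I :=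
  mul_mem (mul_mem (M.hZ _ _) (M.hZ _ _)) (M.hZ _ _)

theorem dZ_memI (a : Fin n × Bool) (p0 p : Fr.Adm) : dZ Fr a p0 p ∈ M.I :=
  mul_mem (nZ_memI M a p) (inv_mem (nZ_memI M a p0))

theorem dZ_memT {i : Fin n} (hi : ¬ (i : ℕ) + 1 < n) (hp0 : p0.c ≠ 0) {p : Fr.Adm} (hp : p.c ≠ 0) :
    M.φ ⟨dZ Fr (i, true) p0 p, dZ_memI M _ _ _⟩ ∈ WittModel.T M :=
  Subgroup.mem_map_of_mem _ (Subgroup.mem_subgroupOf.2 ⟨dZ_memI M _ _ _,
    ((mono_nZ hi hp).mul ((mono_nZ hi hp0).inv (sg_sg i))).congr fun x => sg_sg i x⟩)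

/-- the pair `P` with `n_i Z_a(r) n_i⁻¹ = Z_{-a}(al P)` -/
def pr (p0 r : Fr.Adm) : Fr.Adm := Frame.Adm.smul (-(H.σ p0.c * r.c⁻¹)) r

theorem pr_w (p0 r : Fr.Adm) : (pr p0 r).w = (-(H.σ p0.c * r.c⁻¹)) • r.w := rfl

theorem pr_c (p0 r : Fr.Adm) : (pr p0 r).c = (-(H.σ p0.c * r.c⁻¹)) * H.σ (-(H.σ p0.c * r.c⁻¹)) * r.c := rfl

theorem pr_c' (p0 : Fr.Adm) {r : Fr.Adm} (hr : r.c ≠ 0) : (pr p0 r).c = H.σ p0.c * p0.c * (H.σ r.c)⁻¹ := by
  have hσ : H.σ r.c ≠ 0 := by simpa using hr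
  rw [pr_c]
  simp only [map_neg, map_mul, map_inv₀, H.σσ]
  field_simp

theorem pr_c_ne (hp0 : p0.c ≠ 0) {r : Fr.Adm} (hr : r.c ≠ 0) : (pr p0 r).c ≠ 0 := by
  have hσ : H.σ r.c ≠ 0 := by simpa using hr
  have hσ0 : H.σ p0.c ≠ 0 := by simpa using hp0
  rw [pr_c' p0 hr]
  exact mul_ne_zero (mul_ne_zero hσ0 hp0) (inv_ne_zero hσ)

/-- the right factor -/
def rt (p0 r : Fr.Adm) : Fr.Adm := Frame.Adm.smul (H.ε * (pr p0 r).c * (H.σ (pr p0 r).c)⁻¹) (pr p0 r)

theorem rt_w (hp0 : p0.c ≠ 0) {r : Fr.Adm} (hr : r.c ≠ 0) : (rt p0 r).w = 0 ↔ r.w = 0 := by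
  have h1 := pr_c_ne hp0 hr
  have h2 : H.σ (pr p0 r).c ≠ 0 := by simpa using h1
  have hσ0 : H.σ p0.c ≠ 0 := by simpa using hp0
  rw [rt, Frame.Adm.smul_w, pr_w, smul_eq_zero, smul_eq_zero, neg_eq_zero]
  constructor
  · rintro (h | h | h)
    · exact absurd h (mul_ne_zero (mul_ne_zero H.ε_ne h1) (inv_ne_zero h2))
    · exact absurd h (mul_ne_zero hσ0 (inv_ne_zero hr))
    · exact h
  · intro h
    exact Or.inr (Or.inr h)

include D hA in
/-- the rank one identity -/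
theorem conj_nZ (hp0 : p0.c ≠ 0) (hw0 : p0.w = 0) (i : Fin n) {r : Fr.Adm} (hr : r.c ≠ 0) :
    nZ Fr (i, true) p0 * Fr.Z (i, true) r * (nZ Fr (i, true) p0)⁻¹ =
      (Fr.Z (i, true) (pr p0 r))⁻¹ * dZ Fr (i, true) p0 (pr p0 r) * nZ Fr (i, true) p0 *
        (Fr.Z (i, true) (rt p0 r))⁻¹ := by
  have hσ : H.σ r.c ≠ 0 := by simpa using hr
  have hσ0 : H.σ p0.c ≠ 0 := by simpa using hp0
  have hη : Fr.η (i, true) = 1 := D.ε
  have h1 : nZ Fr (i, true) p0 * Fr.Z (i, true) r * (nZ Fr (i, true) p0)⁻¹ =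
      Fr.Z (neg (i, true)) (al Fr (i, true) (pr p0 r)) := by
    rw [conj_Z Fr (isIso_nZ Fr _ _) (nZ_apply_self Fr (i, true) p0 hp0) r r
      (nZ_p0_V0 D _ hp0 hw0 (Fr.ok_mem r.ok)) rfl]
    congr 1
    rw [al, pr, Frame.Adm.smul_smul, ← pr, pr_c' p0 hr, hη, D.ε]
    congr 1
    simp only [map_mul, map_inv₀, map_one, H.σσ]
    field_simp
  have h2 : nZ Fr (i, true) (pr p0 r) = Fr.Z (i, true) (pr p0 r) *
      Fr.Z (neg (i, true)) (al Fr (i, true) (pr p0 r)) * Fr.Z (i, true) (rt p0 r) := rfl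
  rw [h1, dZ, h2]
  group

include hF D hA in
/-- the character of `F` of a character of order `2` of `T` -/
theorem exists_chi (hp0 : p0.c ≠ 0) (hw0 : p0.w = 0) {i : Fin n} (hi : ¬ (i : ℕ) + 1 < n)
    (nu : ↥(WittModel.T M) →* ℂˣ) (hnu : ∀ s, nu s * nu s = 1) :
    ∃ χ : MulChar F ℂ, (∀ u, u ≠ 0 → χ u * χ u = 1) ∧
      ∀ (r : Fr.Adm), r.c ≠ 0 → ∀ h : M.φ ⟨dZ Fr (i, true) p0 (pr p0 r), dZ_memI M _ _ _⟩ ∈ WittModel.T M,
        ((nu ⟨_, h⟩ : ℂˣ) : ℂ) = χ (r.c * p0.c⁻¹) := by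
  choose pc hpc using fun u : Fˣ => D.exists_c hF (c := (u : F) * p0.c)
  have hpc0 : ∀ u, (pc u).c ≠ 0 := fun u => by rw [hpc]; exact mul_ne_zero u.ne_zero hp0
  let ψ : Fˣ →* ℂˣ := MonoidHom.mk'
    (fun u => nu ⟨M.φ ⟨dZ Fr (i, true) p0 (pc u), dZ_memI M _ _ _⟩, dZ_memT M hi hp0 (hpc0 u)⟩) fun u v => by
      rw [← map_mul]
      congr 1
      apply Subtype.ext
      change M.φ _ = M.φ _ * M.φ _
      rw [← map_mul]
      congr 1
      apply Subtype.ext
      refine dZ_mul hF D hA _ hp0 hw0 (hpc0 u) (hpc0 v) (hpc0 _) ?_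
      rw [hpc, hpc, hpc, Units.val_mul]
      ring
  have hψ : ∀ u, ψ u * ψ u = 1 := fun u => hnu _
  let κ : Fˣ →* ℂˣ := ψ.comp (invMonoidHom.comp (Units.map (H.σ : F →* F)))
  refine ⟨MulChar.ofUnitHom κ, fun u hu => ?_, fun r hr h => ?_⟩
  · have h1 : MulChar.ofUnitHom κ u = ((κ (Units.mk0 u hu) : ℂˣ) : ℂ) := MulChar.ofUnitHom_coe κ (Units.mk0 u hu)
    rw [h1, ← Units.val_mul]
    exact congrArg Units.val (hψ _)
  · have hr0 : r.c * p0.c⁻¹ ≠ 0 := mul_ne_zero hr (inv_ne_zero hp0)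
    have h1 : MulChar.ofUnitHom κ (r.c * p0.c⁻¹) = ((κ (Units.mk0 _ hr0) : ℂˣ) : ℂ) :=
      MulChar.ofUnitHom_coe κ (Units.mk0 _ hr0)
    rw [h1]
    congr 1
    change nu _ = nu _
    congr 1
    apply Subtype.ext
    change M.φ _ = M.φ _
    congr 1
    apply Subtype.ext
    refine dZ_congr D hA _ hp0 hw0 (pr_c_ne hp0 hr) ?_
    rw [hpc, pr_c' p0 hr]
    have h3 : (((invMonoidHom.comp (Units.map (H.σ : F →* F))) (Units.mk0 _ hr0) : Fˣ) : F) =
        (H.σ (r.c * p0.c⁻¹))⁻¹ := Units.val_inv_eq_inv_val _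
    have hσ : H.σ r.c ≠ 0 := by simpa using hr
    have hσ0 : H.σ p0.c ≠ 0 := by simpa using hp0
    rw [h3, map_mul, map_inv₀]
    field_simp

include hF D in
/-- every element of `Z` is a commutator -/
theorem exists_comm (h2 : (2 : F) ≠ 0) {z : Fr.Adm} (hz : z.w = 0) : ∃ r s : Fr.Adm, r * s = z * (s * r) := by
  obtain ⟨r, hr⟩ := D.exists_w hF (z.c / 2)
  obtain ⟨s, hs⟩ := D.exists_w hF 1
  refine ⟨r, s, Frame.Adm.ext ?_ ?_⟩
  · rw [Frame.Adm.mul_w, Frame.Adm.mul_w, Frame.Adm.mul_w, hz, zero_add, add_comm]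
  · have h3 : H.σ z.c = -z.c := by rw [D.σ, D.c_pow hz]
    have h4 : (z.c / 2) ^ q = -z.c / 2 := by
      rw [← D.σ, map_div₀, h3]
      congr 1
      exact map_ofNat H.σ 2
    simp only [Frame.Adm.mul_c, Frame.Adm.mul_w, hz, hr, hs, D.ε, H.zero_right, D.h_smul, h4, one_pow]
    field_simp
    ring

include hF hq D hA in
/-- **the last node is of type `SU_3`** -/
theorem suNode_line (hp0 : p0.c ≠ 0) (hw0 : p0.w = 0) {i : Fin n} (hi : ¬ (i : ℕ) + 1 < n)
    (hmem : ∀ i, WittRGD.nn Fr p0 i ∈ M.I) :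
    SUNode (WittModel.T M) (fun i => M.φ ⟨WittRGD.nn Fr p0 i, hmem i⟩) (WittModel.X M) i := by
  classical
  have h2 : (2 : F) ≠ 0 := two_ne_of_odd (by rw [hF]; exact hq.pow)
  have hnx : nx i = (i, true) := by unfold nx; rw [dif_neg hi]
  have hnn : WittRGD.nn Fr p0 i = nZ Fr (i, true) p0 := by unfold WittRGD.nn; rw [if_neg hi]
  have hX1 : rg Fr (sr i) = ZG Fr (i, true) := by rw [rg_sr, hnx, PG_self]
  set ρ := rho M (i, true) with hρ
  have hinj : Function.Injective ρ := rho_inj M _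
  have hmX : ∀ r, ρ r ∈ WittModel.X M (sr i) := by
    intro r
    refine WittModel.mem_X_of M _ ?_
    rw [hX1]
    exact ⟨r, rfl⟩
  have hX : ∀ x ∈ WittModel.X M (sr i), ∃ r, ρ r = x := by
    intro x hx
    obtain ⟨g, hg, hgx, rfl⟩ := (WittModel.mem_X M).1 hx
    rw [hX1] at hgx
    obtain ⟨r, rfl⟩ := hgx
    exact ⟨r, rfl⟩
  have hne : ∀ r, ρ r ≠ 1 → r.c ≠ 0 := by
    intro r hr h
    apply hr
    rw [D.eq_one hF h, map_one]
  have hc0 : p0.c ^ q = -p0.c := D.c_pow hw0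
  have hσ0 : H.σ p0.c = -p0.c := by rw [D.σ, hc0]
  -- the parametrisation of `X_i`
  let E : Fr.Adm ≃ ↥(WittModel.X M (sr i)) := Equiv.ofBijective (fun r => ⟨ρ r, hmX r⟩)
    ⟨fun r s h => hinj (congrArg Subtype.val h), fun x => by
      obtain ⟨r, hr⟩ := hX x.1 x.2
      exact ⟨r, Subtype.ext hr⟩⟩
  let ro : K0 → Fr.Adm := Function.invFun ρ
  have hro : ∀ r, ro (ρ r) = r := Function.leftInverse_invFun hinj
  refine ⟨q, (adm0 Fr).map ρ, fun x => M.φ ⟨dZ Fr (i, true) p0 (pr p0 (ro x)), dZ_memI M _ _ _⟩,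
    fun x => (ρ (rt p0 (ro x)))⁻¹, two_le hF, ?_, ?_, ?_, ?_, ?_, ?_, ?_, ?_⟩
  · rintro _ ⟨r, -, rfl⟩
    exact hmX r
  · -- `|Z| = q`
    rw [Subgroup.card_map_of_injective hinj, ← card_tr0 hF hp0 hc0, ← Fintype.card_subtype,
      ← Nat.card_eq_fintype_card]
    refine Nat.card_congr ⟨fun r => ⟨r.1.c, ?_⟩, fun c => ⟨D.mk' 0 c.1 ?_, ?_⟩, fun r => ?_, fun c => ?_⟩
    · have h3 : r.1.w = 0 := r.2
      rw [D.c_pow h3, add_neg_cancel]
    · rw [c.2, zero_mul, neg_zero]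
    · change (0 : F) • d = 0
      rw [zero_smul]
    · have h3 : r.1.w = 0 := r.2
      apply Subtype.ext
      apply Frame.Adm.ext
      · change (0 : F) • d = r.1.w
        rw [zero_smul, h3]
      · rfl
    · rfl
  · -- `|X| = q ^ 3`
    rw [← Nat.card_congr E, ← Nat.card_congr D.equiv, card_pairs hF hp0 hc0]
  · -- characters are trivial on `Z`
    rintro f z ⟨y, hy, hy'⟩
    obtain ⟨r, s, h3⟩ := exists_comm hF D h2 (mem_adm0.1 hy)
    have hz : z = ⟨ρ y, hmX y⟩ := Subtype.ext hy'.symm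
    have h4 : (⟨ρ r, hmX r⟩ * ⟨ρ s, hmX s⟩ : ↥(WittModel.X M (sr i))) =
        ⟨ρ y, hmX y⟩ * (⟨ρ s, hmX s⟩ * ⟨ρ r, hmX r⟩) := by
      apply Subtype.ext
      change ρ r * ρ s = ρ y * (ρ s * ρ r)
      rw [← map_mul, ← map_mul, ← map_mul, h3]
    have h5 := congrArg f h4
    rw [map_mul, map_mul, map_mul, mul_comm (f ⟨ρ s, hmX s⟩)] at h5
    rw [hz]
    exact mul_eq_right.1 h5.symm
  · -- commutators
    intro x hx y hy
    obtain ⟨r, rfl⟩ := hX x hx
    obtain ⟨s, rfl⟩ := hX y hy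
    refine ⟨r * s * r⁻¹ * s⁻¹, ?_, by rw [map_mul, map_mul, map_mul, map_inv, map_inv]⟩
    change (r * s * r⁻¹ * s⁻¹).w = 0
    simp only [Frame.Adm.mul_w, Frame.Adm.inv_w]
    abel
  · -- the rank one identity
    intro x hx hx1
    obtain ⟨r, rfl⟩ := hX x hx
    have hr := hne r hx1
    dsimp only
    rw [hro]
    refine ⟨dZ_memT M hi hp0 (pr_c_ne hp0 hr), inv_mem (hmX _), (ρ (pr p0 r))⁻¹, inv_mem (hmX _), ?_⟩
    change M.φ _ * M.φ _ * (M.φ _)⁻¹ = (M.φ _)⁻¹ * M.φ _ * M.φ _ * (M.φ _)⁻¹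
    simp only [← map_inv, ← map_inv, ← map_inv, ← map_mul, ← map_mul, ← map_mul, ← map_mul, ← map_mul]
    congr 1
    apply Subtype.ext
    change WittRGD.nn Fr p0 i * Fr.Z (i, true) r * (WittRGD.nn Fr p0 i)⁻¹ = (Fr.Z (i, true) (pr p0 r))⁻¹ *
      dZ Fr (i, true) p0 (pr p0 r) * WittRGD.nn Fr p0 i * (Fr.Z (i, true) (rt p0 r))⁻¹
    rw [hnn]
    exact conj_nZ D M hA hp0 hw0 i hr
  · intro x hx hx1
    obtain ⟨r, rfl⟩ := hX x hx
    have hr := hne r hx1
    dsimp only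
    rw [hro, inv_mem_iff, mem_map_adm0, mem_map_adm0, rt_w hp0 hr]
  · intro nu hnu _
    obtain ⟨χ, hχ, hχ'⟩ := exists_chi hF D M hA hp0 hw0 hi nu hnu
    have ht : ∀ r, ρ r ≠ 1 → ∀ h : M.φ ⟨dZ Fr (i, true) p0 (pr p0 (ro (ρ r))), dZ_memI M _ _ _⟩ ∈ WittModel.T M,
        ((nu ⟨_, h⟩ : ℂˣ) : ℂ) = χ (r.c * p0.c⁻¹) := by
      intro r hr h
      have h3 := hχ' (ro (ρ r)) (by rw [hro]; exact hne r hr) h
      rw [h3, hro]
    by_cases hχ1 : χ = 1
    · left
      intro x hx hx1 hx'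
      obtain ⟨r, rfl⟩ := hX x hx
      apply Units.ext
      refine (ht r hx1 hx').trans ?_
      rw [hχ1]
      exact MulChar.one_apply (mul_ne_zero (hne r hx1) (inv_ne_zero hp0)).isUnit
    · right
      refine ⟨fun hn => ?_, 1, one_mul 1, ?_, ?_⟩
      · have hc : (p0⁻¹ : Fr.Adm).c = -p0.c := by
          rw [Frame.Adm.inv_c, hw0, H.zero_left, mul_zero, sub_zero]
        have hc' : (p0⁻¹ : Fr.Adm).c ≠ 0 := by rw [hc]; exact neg_ne_zero.2 hp0
        have h3 : M.φ ⟨WittRGD.nn Fr p0 i, hmem i⟩ * M.φ ⟨WittRGD.nn Fr p0 i, hmem i⟩ =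
            M.φ ⟨dZ Fr (i, true) p0 (pr p0 p0⁻¹), dZ_memI M _ _ _⟩ := by
          rw [← map_mul]
          congr 1
          apply Subtype.ext
          change WittRGD.nn Fr p0 i * WittRGD.nn Fr p0 i = dZ Fr (i, true) p0 (pr p0 p0⁻¹)
          rw [hnn, nZ_sq hF D hA _ hp0 hw0]
          refine dZ_congr D hA _ hp0 hw0 hc' ?_
          rw [pr_c' p0 hc', hc, map_neg, hσ0, _root_.neg_neg]
          field_simp
        have h4 : M.φ ⟨dZ Fr (i, true) p0 (pr p0 p0⁻¹), dZ_memI M _ _ _⟩ ∈ WittModel.T M := by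
          rw [← h3]; exact hn
        have h5 : (⟨M.φ ⟨WittRGD.nn Fr p0 i, hmem i⟩ * M.φ ⟨WittRGD.nn Fr p0 i, hmem i⟩, hn⟩ : ↥(WittModel.T M)) =
            ⟨_, h4⟩ := Subtype.ext h3
        dsimp only
        rw [h5]
        apply Units.ext
        rw [hχ' _ hc' h4, hc, neg_mul, mul_inv_cancel₀ hp0, Units.val_one]
        exact chi_fixed hF hq χ hχ (by rw [hq.neg_one_pow]) (neg_ne_zero.2 one_ne_zero)
      · rintro _ ⟨r, hr, rfl⟩ hr1 h
        refine (ht r hr1 h).trans ?_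
        refine chi_fixed hF hq χ hχ ?_ (mul_ne_zero (hne r hr1) (inv_ne_zero hp0))
        rw [mul_pow, inv_pow, hc0, D.c_pow (mem_adm0.1 hr), inv_neg, neg_mul_neg]
      · intro _ f hf hf1
        have h3 := sum_chi hF hq χ hχ hχ1 hp0 hc0
        rw [← (D.equiv.trans E).sum_comp (fun x : ↥(WittModel.X M (sr i)) => f x)]
        have h4 : ∀ y, f ((D.equiv.trans E) y) = χ (y.1.2 * p0.c⁻¹) := by
          intro y
          change f (ρ (D.equiv y)) = _
          by_cases h5 : ρ (D.equiv y) = 1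
          · have h6 : D.equiv y = 1 := hinj (h5.trans (map_one ρ).symm)
            have h7 : y.1.2 = 0 := by rw [← D.equiv_c y, h6]; rfl
            rw [h5, hf1, h7, zero_mul, MulChar.map_zero]
          · have h8 := dZ_memT M hi hp0 (pr_c_ne hp0 (hne _ h5))
            have h9 : M.φ ⟨dZ Fr (i, true) p0 (pr p0 (ro (ρ (D.equiv y)))), dZ_memI M _ _ _⟩ ∈ WittModel.T M := by
              rw [hro]; exact h8
            rw [hf _ (hmX _) h5 h9]
            exact ht _ h5 h9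
        rw [Finset.sum_congr rfl fun y _ => h4 y, h3]
        ring

end node

/-! ### `PSU_{2m+1}(q)` -/

open Cfsg.Agent.LieClassical.HermGen Cfsg.Agent.LieClassical.HermSiegel
  Cfsg.Agent.Nodes.WittU Cfsg.Agent.Nodes.WittAll Cfsg.Agent.TitsThree.SiegelGen Cfsg.Agent.TitsThree.WBridge
  Cfsg.Agent.TitsThree.KSideU Cfsg.Agent.TitsThree.KSideUDesc

theorem line_psu {N m : ℕ} (hF : Fintype.card F = q ^ 2) (W : WFrame (PU hF N) m) {d : Fin N → F}
    (hd : hermForm N F q d d = 1) (hV0 : W.V0 = Submodule.span F {d}) : Line (toFrame W) q d where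
  σ _ := rfl
  ε := rfl
  mem := by
    change d ∈ W.V0
    rw [hV0]
    exact Submodule.mem_span_singleton_self d
  one := hd
  span w hw := by
    have hw' : w ∈ W.V0 := hw
    rw [hV0] at hw'
    obtain ⟨y, rfl⟩ := Submodule.mem_span_singleton.1 hw'
    exact ⟨y, rfl⟩
  ok w hw c hc := ⟨hw, hc⟩

/-- **`PSU_{2m+1}(q)`, `m ≥ 1`, `q` odd** -/
theorem hasInB_psu_odd {m : ℕ} (hF : Fintype.card F = q ^ 2) (hq : Odd q) (hm : 1 ≤ m) {p : ℕ} [Fact p.Prime]
    [CharP F p] : HasInB p (CoxeterMatrix.B m) (PSU (2 * m + 1) F q) := by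
  obtain ⟨W, d, hd, hV0⟩ := exists_wframe_odd (N := 2 * m + 1) hF (m := m) rfl
  obtain ⟨p0, hp0, hw0⟩ := exists_adm hF W
  exact inB_psu_odd hF hq hm W hd hV0 hp0 (fun i => WittRGD.nn_mem (amb_U hF W) p0 i)
    fun i hi => suNode_line hF hq (line_psu hF W hd hV0) _ (amb_U hF W) hp0 hw0 hi _

end Cfsg.Agent.H428.OQ
end

private theorem dce_ac3d6675a145 : _root_.True := by
  try have : _root_.True := by simp only [_root_.Cfsg.Agent.H428.OQ.rt.eq_1]
  try have : _root_.True := by simp only [_root_.Cfsg.Agent.H428.OQ.pr.eq_1]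
  exact _root_.True.intro
end
end
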