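import Cfsg.Agent.H381.OQ.MackeyB_m3
import Cfsg.Agent.Nodes.WittModel
import Cfsg.Agent.Nodes.WittAll
import Cfsg.Agent.Nodes.RGDTypeA
import Cfsg.Agent.Nodes.WittInst
import Cfsg.Agent.H519.LieRank
import Cfsg.Agent.H716.RGDAbMinus
import Cfsg.Agent.H905.MdK
import Cfsg.Agent.Nodes.RGDTwE6
import Cfsg.Agent.ChevFast.E6
import Cfsg.Agent.ChevFast.Lin
import Cfsg.Agent.Lib.FinFast
import Cfsg.Agent.FastGrp
import Cfsg.Agent.Prune
set_option linter.all false

section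
prune_inst 0x7ffeeffbebf83fffdfff7e7ff69ecffdb9f93fffe6dff9cbffe0e9ff0b9f4b0cc9e5abad8fe012fe0ed7621c10fa7b53fffffe7fe36ffc7ffffdbff41ffbff8ffdf7b50871d68c3e0fbc0fff03f07f8e7f3fffffffffffffffffffffffffffbeffbfffffffff

-- part: H69/OQ/Map
section
prune_inst 0x110041400c00000000000016000004402800010200400000002005460140224005040001bc90041200820800400800000008000000200000040004000005000000a8100080080000020006000004000000000000000000000000000000000000000000000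
set_option linter.all false
open scoped Cfsg.Agent.FastGrp

-- part: H69/OQ/Witt
section
/-!
# S4884, `r` odd: torus elements of a Witt frame, fixed points of `O_2(T)` on the root groups (helper69)

* `hX Fr a b t = nX a b (-t) * nX a b 1 = diag(b_a : t, b_b : σ t, b_{-a} : (σ t)⁻¹, b_{-b} : t⁻¹)`;
* `model_X_inj`, `model_Z_inj` : the root elements of a model are different;
* `nofix_of` : the criterion; **`nofix_tt`** : the criterion with `t` of `2`-power order, `t * σ t ≠ 1` (`n ≥ 2`);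
  **`nofix_orth`** : the orthogonal case, `n ≥ 3`.
-/

set_option autoImplicit false
set_option linter.unusedSectionVars false

namespace Cfsg.Agent.H69.OQ

open Cfsg.Agent.ChevalleyStructure.CoxeterGeom Cfsg.Agent.Tits.Roots Cfsg.Agent.Nodes.TypeC
open Cfsg.Agent.Nodes Cfsg.Agent.Nodes.Comb Cfsg.Agent.Nodes.Reps Cfsg.Agent.Nodes.WittRoot Cfsg.Agent.Nodes.BNOf
open Cfsg.Agent.Nodes.WittRGD Cfsg.Agent.Nodes.RGDLib
open Cfsg.Agent.TitsThree Cfsg.Agent.TitsThree.Siegel Cfsg.Agent.TitsThree.WittFrame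
  Cfsg.Agent.TitsThree.WittWeyl Cfsg.Agent.TitsThree.FrameCN

variable {F : Type*} [Field F] {V : Type*} [AddCommGroup V] [Module F V] {H : HForm F V} {n : ℕ}
  (Fr : Frame H (Fin n))

/-! ### The torus elements -/

/-- the torus element `diag(b_a : t, b_b : σ t, b_{-a} : (σ t)⁻¹, b_{-b} : t⁻¹)` -/
def hX (a b : Fin n × Bool) (t : F) : V ≃ₗ[F] V := nX Fr a b (-t) * nX Fr a b 1

section

variable {a b : Fin n × Bool} (hab : a.1 ≠ b.1) {t : F} (ht : t ≠ 0)

include hab ht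

theorem hX_a : hX Fr a b t (Fr.b a) = t • Fr.b a := by
  rw [hX, mul_apply', nX_apply_self Fr hab one_ne_zero, inv_one, one_smul, map_neg,
    nX_apply_neg Fr hab (neg_ne_zero.2 ht), neg_smul, _root_.neg_neg]

theorem hX_nb : hX Fr a b t (Fr.b (neg b)) = t⁻¹ • Fr.b (neg b) := by
  rw [hX, mul_apply', nX_apply_neg Fr hab one_ne_zero, one_smul, nX_apply_self Fr hab (neg_ne_zero.2 ht),
    inv_neg, neg_smul, _root_.neg_neg]

theorem hX_b : hX Fr a b t (Fr.b b) = H.σ t • Fr.b b := by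
  have h1 := Fr.η_ne a
  have h2 := Fr.η_ne b
  have h3 := H.ε_ne
  rw [hX, mul_apply', nX_apply_self' Fr hab one_ne_zero, map_smul, nX_apply_neg' Fr hab (neg_ne_zero.2 ht),
    map_one, map_neg, mul_one, smul_neg, smul_smul, ← neg_smul]
  congr 1
  field_simp

theorem hX_na : hX Fr a b t (Fr.b (neg a)) = (H.σ t)⁻¹ • Fr.b (neg a) := by
  have h1 := Fr.η_ne a
  have h2 := Fr.η_ne b
  have h3 := H.ε_ne
  have h4 : H.σ t ≠ 0 := by simpa using ht
  rw [hX, mul_apply', nX_apply_neg' Fr hab one_ne_zero, map_neg, map_smul,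
    nX_apply_self' Fr hab (neg_ne_zero.2 ht), map_one, map_neg, mul_one, smul_smul, ← neg_smul]
  congr 1
  field_simp

omit ht in
theorem hX_ne {z : Fin n × Bool} (h1 : z.1 ≠ a.1) (h2 : z.1 ≠ b.1) (t : F) : hX Fr a b t (Fr.b z) = Fr.b z := by
  rw [hX, mul_apply', nX_apply_of_ne Fr hab h1 h2, nX_apply_of_ne Fr hab h1 h2]

omit ht in
theorem hX_V0 {v : V} (hv : v ∈ Fr.V0) (t : F) : hX Fr a b t v = v := by
  rw [hX, mul_apply', nX_apply_V0 Fr hab hv, nX_apply_V0 Fr hab hv]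

theorem mono_hX : Mono Fr (hX Fr a b t) id := by
  intro z
  have h4 : H.σ t ≠ 0 := by simpa using ht
  by_cases h1 : z.1 = a.1
  · rcases eq_or_ng h1 with rfl | rfl
    · exact ⟨t, ht, hX_a Fr hab ht⟩
    · exact ⟨(H.σ t)⁻¹, inv_ne_zero h4, hX_na Fr hab ht⟩
  by_cases h2 : z.1 = b.1
  · rcases eq_or_ng h2 with rfl | rfl
    · exact ⟨H.σ t, h4, hX_b Fr hab ht⟩
    · exact ⟨t⁻¹, inv_ne_zero ht, hX_nb Fr hab ht⟩
  · exact ⟨1, one_ne_zero, by rw [hX_ne Fr hab h1 h2, one_smul]; rfl⟩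

theorem hX_pow {G0 : Subgroup (V ≃ₗ[F] V)} (hA : Amb Fr G0) {m : ℕ} (hm : t ^ m = 1) : hX Fr a b t ^ m = 1 := by
  have key : ∀ (z : Fin n × Bool) (l : F), hX Fr a b t (Fr.b z) = l • Fr.b z →
      ∀ k : ℕ, (hX Fr a b t ^ k) (Fr.b z) = l ^ k • Fr.b z := by
    intro z l hl k
    induction k with
    | zero => rw [pow_zero, pow_zero, one_smul]; rfl
    | succ k ih => rw [pow_succ, mul_apply', hl, map_smul, ih, smul_smul, pow_succ, mul_comm]
  refine Cfsg.Agent.Nodes.WittRGD.Amb.eq_one_of_fix hA (fun z => ?_) (fun w hw => ?_)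
  · by_cases h1 : z.1 = a.1
    · rcases eq_or_ng h1 with rfl | rfl
      · rw [key _ _ (hX_a Fr hab ht), hm, one_smul]
      · rw [key (ng a) _ (hX_na Fr hab ht), inv_pow, ← map_pow, hm, map_one, inv_one, one_smul]
    by_cases h2 : z.1 = b.1
    · rcases eq_or_ng h2 with rfl | rfl
      · rw [key _ _ (hX_b Fr hab ht), ← map_pow, hm, map_one, one_smul]
      · rw [key (ng b) _ (hX_nb Fr hab ht), inv_pow, hm, inv_one, one_smul]
    · rw [key z 1 (by rw [hX_ne Fr hab h1 h2, one_smul]), one_pow, one_smul]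
  · have h1 : ∀ k : ℕ, (hX Fr a b t ^ k) w = w := by
      intro k
      induction k with
      | zero => rfl
      | succ k ih => rw [pow_succ, mul_apply', hX_V0 Fr hab hw, ih]
    exact h1 m

end

variable {Fr} {K : Type*} [Group K] (M : Model Fr K)

theorem hX_mem (a b : Fin n × Bool) (t : F) : hX Fr a b t ∈ M.I :=
  mul_mem (mul_mem (mul_mem (M.hX _ _ _) (M.hX _ _ _)) (M.hX _ _ _))
    (mul_mem (mul_mem (M.hX _ _ _) (M.hX _ _ _)) (M.hX _ _ _))

/-! ### The root elements of a model -/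

theorem model_X_inj {a b : Fin n × Bool} (hab : a.1 ≠ b.1) {s s' : F}
    (h : M.φ ⟨Fr.X a b s, M.hX _ _ _⟩ = M.φ ⟨Fr.X a b s', M.hX _ _ _⟩) : s = s' := by
  have h1 : M.φ (⟨Fr.X a b s, M.hX _ _ _⟩ * (⟨Fr.X a b s', M.hX _ _ _⟩)⁻¹) = 1 := by
    rw [map_mul, map_inv, h, mul_inv_cancel]
  obtain ⟨l, hl⟩ := M.ker (Fr.X a b s' (Fr.b (neg b))) _ h1
  have hl' : Fr.X a b s (Fr.b (neg b)) = l • Fr.X a b s' (Fr.b (neg b)) := by
    rw [← hl]
    change _ = (Fr.X a b s * (Fr.X a b s')⁻¹) (Fr.X a b s' (Fr.b (neg b)))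
    rw [← mul_apply', inv_mul_cancel_right]
  rw [X_apply_neg Fr hab, X_apply_neg Fr hab] at hl'
  have h2 := congrArg (fun v => H.h v (Fr.b b)) hl'
  have h3 := congrArg (fun v => H.h v (Fr.b (neg a))) hl'
  simp only [H.add_left, H.smul_left, Fr.hb_neg_self, Fr.hb_self_neg, Fr.hb_of_ne hab,
    Fr.hb_of_ne (x := neg b) (y := neg a) hab.symm, mul_zero, add_zero, zero_add] at h2 h3
  have hη := Fr.η_ne b
  have hη' := Fr.η_ne (neg a)
  have hl1 : l = 1 := by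
    have h4 : (1 : F) * Fr.η b = l * Fr.η b := by rw [one_mul]; exact h2
    exact (mul_right_cancel₀ hη h4).symm
  rw [hl1, one_mul] at h3
  exact mul_right_cancel₀ hη' h3

theorem model_Z_inj {a : Fin n × Bool} {p p' : Fr.Adm}
    (h : M.φ ⟨Fr.Z a p, M.hZ _ _⟩ = M.φ ⟨Fr.Z a p', M.hZ _ _⟩) : p = p' := by
  have h1 : M.φ (⟨Fr.Z a p, M.hZ _ _⟩ * (⟨Fr.Z a p', M.hZ _ _⟩)⁻¹) = 1 := by
    rw [map_mul, map_inv, h, mul_inv_cancel]
  obtain ⟨l, hl⟩ := M.ker (Fr.Z a p' (Fr.b (neg a))) _ h1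
  have hl' : Fr.Z a p (Fr.b (neg a)) = l • Fr.Z a p' (Fr.b (neg a)) := by
    rw [← hl]
    change _ = (Fr.Z a p * (Fr.Z a p')⁻¹) (Fr.Z a p' (Fr.b (neg a)))
    rw [← mul_apply', inv_mul_cancel_right]
  rw [Z_apply_neg, Z_apply_neg] at hl'
  have hη := Fr.η_ne a
  have hη' := Fr.η_ne (neg a)
  have hw := Fr.h0' a (Fr.ok_mem p.ok)
  have hw' := Fr.h0' a (Fr.ok_mem p'.ok)
  have hv := Fr.h0' (neg a) (Fr.ok_mem p.ok)
  have hv' := Fr.h0' (neg a) (Fr.ok_mem p'.ok)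
  have h2 := congrArg (fun v => H.h v (Fr.b a)) hl'
  have h3 := congrArg (fun v => H.h v (Fr.b (neg a))) hl'
  simp only [H.add_left, H.smul_left, Fr.hb_neg_self, Fr.hb_self_neg, Fr.hb_self, hw, hw', hv, hv',
    mul_zero, add_zero, zero_add] at h2 h3
  have hl1 : l = 1 := by
    have h4 : (1 : F) * Fr.η a = l * Fr.η a := by rw [one_mul]; exact h2
    exact (mul_right_cancel₀ hη h4).symm
  rw [hl1, one_mul] at h3
  have hc : p.c = p'.c := mul_right_cancel₀ hη (mul_right_cancel₀ hη' h3)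
  apply Frame.Adm.ext
  · rw [hl1, one_smul, hc] at hl'
    have h5 := add_left_cancel (add_right_cancel hl')
    exact smul_right_injective V hη h5
  · exact hc

/-! ### The criterion -/

variable {W : Type*} [Group W] (cs : CoxeterSystem (CoxeterMatrix.B n) W)

/-- the criterion -/
theorem nofix_of (hA : Amb Fr M.I)
    (hx : ∀ a b : Fin n × Bool, a.1 ≠ b.1 → ∃ (g : V ≃ₗ[F] V) (l m : F), g ∈ M.I ∧ Mono Fr g id ∧
      (∃ k : ℕ, g ^ 2 ^ k = 1) ∧ g (Fr.b a) = l • Fr.b a ∧ g (Fr.b b) = m • Fr.b b ∧ l * H.σ m ≠ 1)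
    (hz : ∀ (a : Fin n × Bool) (p : Fr.Adm), p ≠ 1 → ∃ (g : V ≃ₗ[F] V) (l : F) (q : Fr.Adm), g ∈ M.I ∧ Mono Fr g id ∧
      (∃ k : ℕ, g ^ 2 ^ k = 1) ∧ g (Fr.b a) = l • Fr.b a ∧ g p.w = q.w ∧ p.c = q.c ∧ Frame.Adm.smul (H.σ l) q ≠ p) :
    NoFix cs (isCartan n) (WittModel.T M) (WittModel.X M) := by
  intro x hxr u hu hcomm
  obtain ⟨a, b, hab, e⟩ := exists_of_isRoot cs hxr
  obtain ⟨g, hg, hgx, rfl⟩ := (WittModel.mem_X M).1 hu
  rw [rg_eq Fr hab e] at hgx
  have key : ∀ t : V ≃ₗ[F] V, ∀ ht : t ∈ M.I, Mono Fr t id → (∃ k : ℕ, t ^ 2 ^ k = 1) →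
      M.φ ⟨t * g * t⁻¹, mul_mem (mul_mem ht hg) (inv_mem ht)⟩ = M.φ ⟨g, hg⟩ := by
    intro t ht hm ⟨k, hk⟩
    have h1 : M.φ ⟨t, ht⟩ ∈ WittModel.T M := Subgroup.mem_map_of_mem _ (Subgroup.mem_subgroupOf.2 ⟨ht, hm⟩)
    have h2 : M.φ ⟨t, ht⟩ ^ 2 ^ k = 1 := by
      rw [← map_pow]
      have : (⟨t, ht⟩ : M.I) ^ 2 ^ k = 1 := Subtype.ext hk
      rw [this, map_one]
    have h3 := hcomm _ h1 ⟨k, h2⟩
    have h4 : (⟨t * g * t⁻¹, mul_mem (mul_mem ht hg) (inv_mem ht)⟩ : M.I) = ⟨t, ht⟩ * ⟨g, hg⟩ * (⟨t, ht⟩)⁻¹ := rfl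
    rw [h4, map_mul, map_mul, map_inv, h3, mul_inv_cancel_right]
  rcases hab with hne | rfl
  · rw [PG_ne Fr hne] at hgx
    obtain ⟨s, rfl⟩ := hgx
    obtain ⟨t, l, m, ht, hm, hk, hl, hm', hlm⟩ := hx a b hne
    have h1 := key t ht hm hk
    have h2 : t * Fr.X a b s * t⁻¹ = Fr.X a b (l * H.σ m * (Fr.η b)⁻¹ * Fr.η b * s) :=
      conj_X Fr (hA.iso t ht) hne hne hl hm' s
    have h3 : M.φ ⟨Fr.X a b (l * H.σ m * (Fr.η b)⁻¹ * Fr.η b * s), M.hX _ _ _⟩ = M.φ ⟨Fr.X a b s, M.hX _ _ _⟩ := by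
      rw [← h1]
      congr 1
      exact Subtype.ext h2.symm
    have h4 := model_X_inj M hne h3
    rw [inv_mul_cancel_right₀ (Fr.η_ne b)] at h4
    have h5 : s = 0 := by
      by_contra hs
      exact hlm (mul_right_cancel₀ hs (h4.trans (one_mul s).symm))
    subst h5
    have h6 : (⟨Fr.X a b 0, M.hX _ _ _⟩ : M.I) = 1 := Subtype.ext (Fr.X_zero a b)
    exact (congrArg M.φ h6).trans (map_one _)
  · rw [PG_self] at hgx
    obtain ⟨p, rfl⟩ := hgx
    by_cases hp : p = 1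
    · subst hp
      have h6 : (⟨Fr.Z a 1, M.hZ _ _⟩ : M.I) = 1 := Subtype.ext (Fr.Z_one a)
      exact (congrArg M.φ h6).trans (map_one _)
    exfalso
    obtain ⟨t, l, q, ht, hm, hk, hl, hq, hq', hne⟩ := hz a p hp
    have h1 := key t ht hm hk
    have h2 : t * Fr.Z a p * t⁻¹ = Fr.Z a (Frame.Adm.smul (H.σ l) q) := conj_Z Fr (hA.iso t ht) hl p q hq hq'
    have h3 : M.φ ⟨Fr.Z a (Frame.Adm.smul (H.σ l) q), M.hZ _ _⟩ = M.φ ⟨Fr.Z a p, M.hZ _ _⟩ := by
      rw [← h1]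
      congr 1
      exact Subtype.ext h2.symm
    exact hne (model_Z_inj M h3)

/-- **the criterion for symplectic groups with `q ≡ 1 mod 4` and for unitary groups**, `n ≥ 2` -/
theorem nofix_tt (hA : Amb Fr M.I) (hn : 2 ≤ n) {t : F} {k : ℕ} (ht : t ^ 2 ^ k = 1) (htσ : t * H.σ t ≠ 1) :
    NoFix cs (isCartan n) (WittModel.T M) (WittModel.X M) := by
  have ht0 : t ≠ 0 := by
    rintro rfl
    rw [zero_pow (by positivity)] at ht
    exact zero_ne_one ht
  have hσ1 : H.σ t ≠ 1 := by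
    intro h1
    have h2 : t = 1 := by rw [← H.σσ t, h1, map_one]
    rw [h2, map_one, mul_one] at htσ
    exact htσ rfl
  have ht2 : t * t ≠ 1 := by
    intro h1
    have h2 : (t - 1) * (t + 1) = 0 := by ring_nf; rw [sq, h1]; ring
    rcases mul_eq_zero.1 h2 with h3 | h3
    · have h4 : t = 1 := sub_eq_zero.1 h3
      rw [h4, map_one] at hσ1
      exact hσ1 rfl
    · have h4 : t = -1 := eq_neg_of_add_eq_zero_left h3
      apply htσ
      rw [h4, map_neg, map_one]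
      ring
  have hex : ∀ a : Fin n × Bool, ∃ b : Fin n × Bool, a.1 ≠ b.1 := by
    intro a
    have : Nontrivial (Fin n) := Fin.nontrivial_iff_two_le.2 hn
    obtain ⟨j, hj⟩ := exists_ne a.1
    exact ⟨(j, true), hj.symm⟩
  refine nofix_of M cs hA (fun a b hab => ?_) (fun a p hp => ?_)
  · refine ⟨hX Fr a b t, t, H.σ t, hX_mem M a b t, mono_hX Fr hab ht0, ⟨k, hX_pow Fr hab ht0 hA ht⟩,
      hX_a Fr hab ht0, hX_b Fr hab ht0, ?_⟩
    rw [H.σσ]
    exact ht2
  · obtain ⟨b, hab⟩ := hex a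
    refine ⟨hX Fr a b t, t, p, hX_mem M a b t, mono_hX Fr hab ht0, ⟨k, hX_pow Fr hab ht0 hA ht⟩,
      hX_a Fr hab ht0, hX_V0 Fr hab (Fr.ok_mem p.ok) t, rfl, ?_⟩
    intro h1
    have hw := congrArg Frame.Adm.w h1
    have hc := congrArg Frame.Adm.c h1
    rw [Frame.Adm.smul_w] at hw
    rw [Frame.Adm.smul_c, H.σσ] at hc
    apply hp
    have hw0 : p.w = 0 := by
      have h2 : (H.σ t - 1) • p.w = 0 := by rw [sub_smul, hw, one_smul, sub_self]
      exact (smul_eq_zero.1 h2).resolve_left (sub_ne_zero.2 hσ1)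
    have hc0 : p.c = 0 := by
      by_contra h3
      have h4 : H.σ t * t = 1 := mul_right_cancel₀ h3 (hc.trans (one_mul _).symm)
      exact htσ (by rw [mul_comm]; exact h4)
    exact Frame.Adm.ext hw0 hc0

/-- **the criterion for orthogonal groups in odd characteristic**, `n ≥ 3` -/
theorem nofix_orth (hA : Amb Fr M.I) (hn : 3 ≤ n) (h2 : (2 : F) ≠ 0) (hσ : ∀ x, H.σ x = x) (hε : H.ε = 1) :
    NoFix cs (isCartan n) (WittModel.T M) (WittModel.X M) := by
  have h1 : (-1 : F) ≠ 0 := neg_ne_zero.2 one_ne_zero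
  have h11 : (-1 : F) ≠ 1 := by
    intro h
    apply h2
    have : (1 : F) + 1 = 0 := by nth_rewrite 1 [← h]; ring
    rw [← this]; norm_num
  have hp : (-1 : F) ^ 2 ^ 1 = 1 := by norm_num
  have hex : ∀ a b : Fin n × Bool, ∃ c : Fin n × Bool, a.1 ≠ c.1 ∧ b.1 ≠ c.1 := by
    intro a b
    obtain ⟨j, hj⟩ : ∃ j : Fin n, j ∉ ({a.1, b.1} : Finset (Fin n)) := by
      by_contra hcon
      push Not at hcon
      have h3 : (Finset.univ : Finset (Fin n)) ⊆ {a.1, b.1} := fun j _ => hcon j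
      have h4 := Finset.card_le_card h3
      have h5 : ({a.1, b.1} : Finset (Fin n)).card ≤ 2 := Finset.card_le_two
      rw [Finset.card_univ, Fintype.card_fin] at h4
      omega
    rw [Finset.mem_insert, Finset.mem_singleton, not_or] at hj
    exact ⟨(j, true), fun h => hj.1 h.symm, fun h => hj.2 h.symm⟩
  refine nofix_of M cs hA (fun a b hab => ?_) (fun a p hp1 => ?_)
  · obtain ⟨c, hac, hbc⟩ := hex a b
    refine ⟨hX Fr a c (-1), -1, 1, hX_mem M a c _, mono_hX Fr hac h1, ⟨1, hX_pow Fr hac h1 hA hp⟩,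
      hX_a Fr hac h1, ?_, ?_⟩
    · rw [hX_ne Fr hac hab.symm hbc, one_smul]
    · rw [map_one, mul_one]
      exact h11
  · obtain ⟨c, hac, -⟩ := hex a a
    refine ⟨hX Fr a c (-1), -1, p, hX_mem M a c _, mono_hX Fr hac h1, ⟨1, hX_pow Fr hac h1 hA hp⟩,
      hX_a Fr hac h1, hX_V0 Fr hac (Fr.ok_mem p.ok) _, rfl, ?_⟩
    intro h3
    have hw := congrArg Frame.Adm.w h3
    rw [Frame.Adm.smul_w, hσ] at hw
    apply hp1
    have hw0 : p.w = 0 := by
      have h4 : (-1 - 1 : F) • p.w = 0 := by rw [sub_smul, hw, one_smul, sub_self]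
      refine (smul_eq_zero.1 h4).resolve_left ?_
      intro h5
      apply h2
      have : (2 : F) = -(-1 - 1) := by ring
      rw [this, h5, neg_zero]
    have hc0 : p.c = 0 := by
      have h4 := p.herm
      rw [hσ, hε, one_mul, hw0, H.zero_left, neg_zero, ← two_mul] at h4
      exact (mul_eq_zero.1 h4).resolve_left h2
    exact Frame.Adm.ext hw0 hc0

end Cfsg.Agent.H69.OQ
end

-- part: H69/OQ/Map
section
/-!
# S4884, `r` odd: `NoFix` and central quotients; the types `A_n` (`PSL_{n+1}`, `n ≥ 2`) and `D_n` (helper69)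
-/

set_option autoImplicit false
set_option linter.unusedSectionVars false

namespace Cfsg.Agent.H69.OQ

open CoxeterSystem Cfsg.Agent.ChevalleyStructure.CoxeterGeom Cfsg.Agent.Tits.Roots
open Cfsg.Agent.Nodes.Reps Cfsg.Agent.Nodes.BNOf

section Map

variable {I W Y Y' : Type*} [Fintype I] [DecidableEq I] [Group W] [Group Y] [Group Y'] {M : CoxeterMatrix I}
  {cs : CoxeterSystem M W} {A : I → I → ℤ} {h : IsCartan M A} {T : Subgroup Y} {X : (I → ℤ) → Subgroup Y}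

/-- `NoFix` passes to central quotients -/
theorem NoFix.map (hN : NoFix cs h T X) (htor : ∀ x, IsRoot cs h x → ∀ t ∈ T, cj t (X x) = X x) (f : Y →* Y')
    (hker : f.ker ≤ Subgroup.center Y) : NoFix cs h (T.map f) (fun x => (X x).map f) := by
  rintro x hx _ ⟨u, hu, rfl⟩ hcomm
  have hcen : ∀ z ∈ X x, f z = 1 → z = 1 := by
    intro z hz hz1
    refine hN x hx z hz fun t _ _ => ?_
    exact (Subgroup.mem_center_iff.1 (hker (MonoidHom.mem_ker.2 hz1)) t)
  have h1 : u = 1 := by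
    refine hN x hx u hu fun t ht ⟨k, hk⟩ => ?_
    have h2 := hcomm (f t) (Subgroup.mem_map_of_mem f ht) ⟨k, by rw [← map_pow, hk, map_one]⟩
    have h3 : t * u * t⁻¹ ∈ X x := by
      rw [← htor x hx t ht]
      exact conj_mem_cj.2 hu
    have h4 : t * u * t⁻¹ * u⁻¹ = 1 := by
      refine hcen _ (mul_mem h3 (inv_mem hu)) ?_
      rw [map_mul, map_mul, map_mul, map_inv, map_inv, h2, mul_inv_cancel_right, mul_inv_cancel]
    rw [mul_inv_eq_one, mul_inv_eq_iff_eq_mul] at h4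
    exact h4
  rw [h1, map_one]

/-- `NoFix` and isomorphisms -/
theorem NoFix.of_equiv (hN : NoFix cs h T X) (e : Y ≃* Y') :
    NoFix cs h (T.map e.toMonoidHom) (fun x => (X x).map e.toMonoidHom) := by
  rintro x hx _ ⟨u, hu, rfl⟩ hcomm
  have h1 : u = 1 := by
    refine hN x hx u hu fun t ht ⟨k, hk⟩ => ?_
    have h2 := hcomm (e t) (Subgroup.mem_map_of_mem e.toMonoidHom ht) ⟨k, by rw [← map_pow, hk, map_one]⟩
    apply e.injective
    rw [map_mul, map_mul]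
    exact h2
  rw [h1, map_one]

/-- `NoFix` restricts to a subgroup, with its own `2`-elements -/
theorem NoFix.restrict (K : Subgroup Y) (hN : ∀ x, IsRoot cs h x → ∀ u ∈ X x,
      (∀ t ∈ T, t ∈ K → (∃ k : ℕ, t ^ 2 ^ k = 1) → t * u = u * t) → u = 1) :
    NoFix cs h (T.subgroupOf K) (fun x => (X x).subgroupOf K) := by
  rintro x hx ⟨u, huK⟩ hu hcomm
  refine Subtype.ext (hN x hx u hu fun t ht htK ⟨k, hk⟩ => ?_)
  exact congrArg Subtype.val (hcomm ⟨t, htK⟩ ht ⟨k, Subtype.ext hk⟩)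

end Map

/-! ### Type `A` -/

section TypeA

open Matrix Cfsg.Agent.Nodes.RGDTypeA Cfsg.Agent.Nodes.RootsA
open Cfsg.Agent.LieRecognition.BNCox (cA)
open Cfsg.Agent.LieClassical.SLGen
open Cfsg.Agent.TitsThree.KSideA (tv tv_of_ne tv_add tv_zero tv_neg tv_comm tv_commute diag2n_eq)

variable {n : ℕ} {F : Type*} [Field F] {W : Type*} [Group W] (cs : CoxeterSystem (cA n) W) {A : Fin n → Fin n → ℤ}
  (h : IsCartan (cA n) A)

/-- `SL_{n+1}(F)`, `n ≥ 2`, odd characteristic -/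
theorem nofix_sl (hn : 2 ≤ n) (h2 : (2 : F) ≠ 0) :
    NoFix cs h (T (Fin (n + 1)) F) (X F) := by
  intro x hx u hu hcomm
  obtain ⟨a, b, hab, rfl⟩ := exists_of_isRoot cs h hx
  rw [X_rtA hab] at hu
  obtain ⟨s, rfl⟩ := hu
  obtain ⟨c, hca, hcb⟩ : ∃ c : Fin (n + 1), c ≠ a ∧ c ≠ b := by
    obtain ⟨j, hj⟩ : ∃ j : Fin (n + 1), j ∉ ({a, b} : Finset (Fin (n + 1))) := by
      by_contra hcon
      push Not at hcon
      have h3 : (Finset.univ : Finset (Fin (n + 1))) ⊆ {a, b} := fun j _ => hcon j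
      have h4 := Finset.card_le_card h3
      have h5 : ({a, b} : Finset (Fin (n + 1))).card ≤ 2 := Finset.card_le_two
      rw [Finset.card_univ, Fintype.card_fin] at h4
      omega
    rw [Finset.mem_insert, Finset.mem_singleton, not_or] at hj
    exact ⟨j, hj.1, hj.2⟩
  have h1 : (1 : F) ≠ 0 := one_ne_zero
  set g : SpecialLinearGroup (Fin (n + 1)) F := nn a c 1 * nn a c 1 with hg
  have hm : Mono 1 g := by
    have h3 := (mono_nn (F := F) hca.symm h1).mul (mono_nn hca.symm h1)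
    rwa [Equiv.swap_mul_self] at h3
  have hact : ∀ (v : Fin (n + 1) → F) (l : Fin (n + 1)), (g • v) l = if l = a ∨ l = c then - v l else v l := by
    intro v l
    rw [hg, mul_smul]
    simp only [nn_smul hca.symm h1]
    by_cases hla : l = a
    · subst hla
      simp [hca]
    · by_cases hlc : l = c
      · subst hlc
        simp [hca]
      · simp [hla, hlc]
  have haa : g.1 a a = -1 := by rw [apply_eq_smul, hact]; simp
  have hbb : g.1 b b = 1 := by rw [apply_eq_smul, hact]; simp [hab.symm, hcb.symm]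
  have hg2 : g ^ 2 ^ 1 = 1 := by
    apply Subtype.ext
    ext i j
    rw [apply_eq_smul, pow_one, sq, mul_smul, hact, hact]
    rw [apply_eq_smul, one_smul]
    split_ifs <;> simp
  have h3 := hcomm g hm ⟨1, hg2⟩
  have h4 := hm.conj_tv hab s
  rw [h3, mul_inv_cancel_right] at h4
  have h5 := tv_inj (by simpa using hab) h4
  simp only [Equiv.Perm.coe_one, id_eq] at h5
  rw [haa, hbb] at h5
  have h6 : (2 : F) * s = 0 := by
    have : s + s = 0 := by nth_rewrite 2 [h5]; simp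
    rw [two_mul]; exact this
  have h7 : s = 0 := (mul_eq_zero.1 h6).resolve_left h2
  rw [h7]
  exact tv_zero a b

end TypeA

/-! ### Type `D` -/

section TypeD

open Cfsg.Agent.Nodes.TypeD
open Cfsg.Agent.Nodes Cfsg.Agent.Nodes.WittRGD
open Cfsg.Agent.TitsThree.Siegel Cfsg.Agent.TitsThree.WittFrame Cfsg.Agent.TitsThree.WittWeyl
open Cfsg.Agent.Nodes.WittRoot (Amb Mono XG)

variable {F : Type*} [Field F] {V : Type*} [AddCommGroup V] [Module F V] {H : HForm F V} {n : ℕ}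
  {Fr : Frame H (Fin (n + 2))} {G0 : Subgroup (V ≃ₗ[F] V)} {W : Type*} [Group W] (cs : CoxeterSystem (M n) W)

/-- Witt frames of type `D_{n+2}`, `n + 2 ≥ 3`, odd characteristic -/
theorem nofix_D (hA : Amb Fr G0) (hn : 1 ≤ n) (h2 : (2 : F) ≠ 0) :
    NoFix cs (isCartan n) ((Tor Fr G0).subgroupOf G0) (fun x => (WittRGDD.rg Fr x).subgroupOf G0) := by
  refine NoFix.restrict G0 fun x hx u hu hcomm => ?_
  obtain ⟨a, b, hab, e⟩ := exists_of_isRoot cs hx
  have hab' : a.1 ≠ b.1 := hab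
  rw [WittRGDD.rg_eq Fr hab e] at hu
  obtain ⟨s, rfl⟩ := hu
  obtain ⟨c, hac, hbc⟩ : ∃ c : Fin (n + 2) × Bool, a.1 ≠ c.1 ∧ b.1 ≠ c.1 := by
    obtain ⟨j, hj⟩ : ∃ j : Fin (n + 2), j ∉ ({a.1, b.1} : Finset (Fin (n + 2))) := by
      by_contra hcon
      push Not at hcon
      have h3 : (Finset.univ : Finset (Fin (n + 2))) ⊆ {a.1, b.1} := fun j _ => hcon j
      have h4 := Finset.card_le_card h3
      have h5 : ({a.1, b.1} : Finset (Fin (n + 2))).card ≤ 2 := Finset.card_le_two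
      rw [Finset.card_univ, Fintype.card_fin] at h4
      omega
    rw [Finset.mem_insert, Finset.mem_singleton, not_or] at hj
    exact ⟨(j, true), fun h => hj.1 h.symm, fun h => hj.2 h.symm⟩
  have h1 : (-1 : F) ≠ 0 := neg_ne_zero.2 one_ne_zero
  have hp : (-1 : F) ^ 2 ^ 1 = 1 := by norm_num
  have hmem : hX Fr a c (-1) ∈ G0 :=
    mul_mem (mul_mem (mul_mem (hA.X_mem _ _ _) (hA.X_mem _ _ _)) (hA.X_mem _ _ _))
      (mul_mem (mul_mem (hA.X_mem _ _ _) (hA.X_mem _ _ _)) (hA.X_mem _ _ _))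
  have h3 := hcomm (hX Fr a c (-1)) ⟨hmem, mono_hX Fr hac h1⟩ hmem ⟨1, hX_pow Fr hac h1 hA hp⟩
  have h4 := conj_X Fr (hA.iso _ hmem) hab' hab' (hX_a Fr hac h1)
    (m := 1) (y' := b) (by rw [hX_ne Fr hac hab'.symm hbc, one_smul]) s
  rw [h3, mul_inv_cancel_right] at h4
  have h5 := congrArg (fun g : V ≃ₗ[F] V => g (Fr.b (neg b))) h4
  simp only [X_apply_neg Fr hab'] at h5
  have h6 := add_left_cancel h5
  have h7 : s = -1 * H.σ 1 * (Fr.η b)⁻¹ * Fr.η b * s := by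
    by_contra hne
    have h8 : (s - -1 * H.σ 1 * (Fr.η b)⁻¹ * Fr.η b * s) • Fr.b a = 0 := by
      rw [sub_smul, ← h6, sub_self]
    exact b_ne_zero a ((smul_eq_zero.1 h8).resolve_left (sub_ne_zero.2 hne))
  rw [inv_mul_cancel_right₀ (Fr.η_ne b), map_one, mul_one, neg_one_mul] at h7
  have h8 : (2 : F) * s = 0 := by
    rw [two_mul]
    nth_rewrite 1 [h7]
    exact neg_add_cancel s
  have h9 : s = 0 := (mul_eq_zero.1 h8).resolve_left h2
  rw [h9]
  exact Fr.X_zero a b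

end TypeD

end Cfsg.Agent.H69.OQ
end

private theorem dce_5f411796a3d0 : _root_.True := by
  try have : _root_.True := by simp only [_root_.Cfsg.Agent.H69.OQ.hX.eq_1]
  exact _root_.True.intro
end

-- part: H69/OQ/InRows
section
prune_inst 0x5000000000000000020000000000000000000000000002000208000000000000000000008000000000000000000001000000000000000000000000000000000000000000000000000000000000000000000000000000000000000000000000000
set_option linter.all false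
open scoped Cfsg.Agent.FastGrp

-- part: H69/OQ/Rows
section
/-!
# S4884, own characteristic, `r` odd: the classical rows of `NoFix` (helper69)

`HasNF p M G` : `G` has a root group datum of characteristic `p` and type `M` whose torus `T` satisfies `NoFix`
(no nontrivial element of a root group commutes with `O_2(T)`).

* `nf_psl` : `PSL_{n+1}(F)`, `n ≥ 2`; `nf_psp` : `PSp_{2m}(F)`, `m ≥ 2`, `|F| % 4 = 1`; `nf_psu` : `PSU_N(q)`, `N ≥ 4`;
* `nf_podd`, `nf_pminus` (`m ≥ 3`), `nf_pplus`; the terms `T`, `n`, `X` are the ones of `Typ.List`.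
-/

set_option autoImplicit false
set_option linter.unusedSectionVars false

namespace Cfsg.Agent.H69.OQ

open Cfsg
open CoxeterSystem Cfsg.Agent.ChevalleyStructure.CoxeterGeom Cfsg.Agent.Tits.Roots Cfsg.Agent.Tits.Core
  Cfsg.Agent.Nodes.Comb Cfsg.Agent.Nodes.Reps Cfsg.Agent.Nodes.BNOf
  Cfsg.Agent.Nodes.RGDLib Cfsg.Agent.LieRecognition.BNCox

section TypeC

open Cfsg.Agent.Nodes Cfsg.Agent.Nodes.WittAll Cfsg.Agent.Nodes.WittU Cfsg.Agent.Nodes.WittInst
  Cfsg.Agent.TitsThree.Siegel Cfsg.Agent.TitsThree.SiegelGen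
  Cfsg.Agent.TitsThree.WittFrame Cfsg.Agent.TitsThree.WBridge Cfsg.Agent.TitsThree.WittWeyl
  Cfsg.Agent.TitsThree.FrameCN Cfsg.Agent.TitsThree Cfsg.Agent.Nodes.WittRoot

variable {F : Type*} [Field F] {V : Type*} [AddCommGroup V] [Module F V] {H : HForm F V}

/-- a `2`-element with `t ^ (q + 1) ≠ 1` in the field with `q ^ 2` elements -/
theorem exists_two_elt [Fintype F] {q : ℕ} (hF : Fintype.card F = q ^ 2) (hq : Odd q) :
    ∃ (t : F) (k : ℕ), t ^ 2 ^ k = 1 ∧ t * t ^ q ≠ 1 := by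
  classical
  have hq1 : 1 < q := by
    by_contra hcon
    have h1 := Fintype.one_lt_card (α := F)
    rw [hF] at h1
    have h2 : q = 0 ∨ q = 1 := by omega
    rcases h2 with rfl | rfl <;> norm_num at h1
  obtain ⟨g, hg⟩ := IsCyclic.exists_generator (α := Fˣ)
  have hord : orderOf g = q ^ 2 - 1 := by
    rw [orderOf_eq_card_of_forall_mem_zpowers hg, Nat.card_eq_fintype_card, Fintype.card_units, hF]
  have hpos : q ^ 2 - 1 ≠ 0 := by
    have : 1 < q ^ 2 := Nat.one_lt_pow (by norm_num) hq1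
    omega
  obtain ⟨k, m, hm, hkm⟩ := Nat.exists_eq_two_pow_mul_odd hpos
  refine ⟨((g ^ m : Fˣ) : F), k, ?_, ?_⟩
  · have h1 : (g ^ m) ^ 2 ^ k = 1 := by
      rw [← pow_mul, mul_comm, ← hkm, ← hord]
      exact pow_orderOf_eq_one g
    rw [← Units.val_pow_eq_pow_val, h1, Units.val_one]
  · intro h1
    have h2 : (g ^ m) ^ (q + 1) = 1 := by
      apply Units.ext
      rw [Units.val_pow_eq_pow_val, pow_succ', h1, Units.val_one]
    rw [← pow_mul] at h2
    have h3 := orderOf_dvd_of_pow_eq_one h2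
    rw [hord, hkm, mul_comm m] at h3
    have h4 : 2 ^ k ∣ q + 1 := Nat.dvd_of_mul_dvd_mul_right hm.pos h3
    -- `q ^ 2 - 1 = (q - 1) (q + 1)` has a larger `2`-part
    have h5 : q ^ 2 - 1 = (q - 1) * (q + 1) := by
      obtain ⟨s, rfl⟩ : ∃ s, q = s + 1 := ⟨q - 1, by omega⟩
      have : (s + 1) ^ 2 = (s + 1 - 1) * (s + 1 + 1) + 1 := by rw [Nat.add_sub_cancel]; ring
      rw [this]
      rfl
    have h6 : 2 * 2 ^ k ∣ q ^ 2 - 1 := by
      rw [h5]
      exact mul_dvd_mul (by obtain ⟨s, rfl⟩ := hq; exact ⟨s, by omega⟩) h4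
    rw [hkm, mul_comm 2, Nat.mul_dvd_mul_iff_left (by positivity)] at h6
    obtain ⟨s, hs⟩ := hm
    omega

end TypeC

section Orthogonal

open QuadraticMap
open Cfsg.Agent.LieClassical Cfsg.Agent.LieClassical.OrthCore Cfsg.Agent.LieClassical.OrthTrans
open Cfsg.Agent.LieClassical.OrthSimple Cfsg.Agent.LieClassical.OrthFinite
open Cfsg.Agent.LieClassical.OrthForms
open Cfsg.Agent.TitsThree.KSideO Cfsg.Agent.TitsThree.StdData
open Cfsg.Agent.Nodes Cfsg.Agent.Nodes.WittAll Cfsg.Agent.Nodes.WittU Cfsg.Agent.Nodes.WittInst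
  Cfsg.Agent.TitsThree.Siegel Cfsg.Agent.TitsThree.SiegelGen
  Cfsg.Agent.TitsThree.WittFrame Cfsg.Agent.TitsThree.WBridge Cfsg.Agent.TitsThree.WittWeyl
  Cfsg.Agent.TitsThree.FrameCN

variable {F : Type*} [Field F] {m : ℕ}

end Orthogonal

end Cfsg.Agent.H69.OQ
end

-- part: H69/OQ/Faith
section
/-!
# S4884, own odd characteristic: faithful action on the 2-elements of the torus, the general form (helper69)

As `H381.OQ.twFaithful_of`, but the nodes outside of `S` (with `A k i` even for all `k`) need no torus element.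
-/

set_option autoImplicit false

namespace Cfsg.Agent.H69.OQ

open CoxeterSystem Cfsg.Agent.ChevalleyStructure.CoxeterGeom Cfsg.Agent.Tits.Roots Cfsg.Agent.Nodes.Reps
  Cfsg.Agent.Nodes.BNOf Cfsg.Agent.Nodes.Bruhat Cfsg.Agent.H684.OQ Cfsg.Agent.H381.OQ

section weyl

variable {I W : Type*} [Fintype I] [DecidableEq I] [Group W] {M : CoxeterMatrix I}
  (cs : CoxeterSystem M W) {A : I → I → ℤ} (h : IsCartan M A)

omit [Group W] in
theorem pairing_sr' (i j : I) : pairing A i (sr j) = A i j := by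
  unfold pairing
  rw [Finset.sum_eq_single j]
  · rw [sr_self, mul_one]
  · intro b _ hb
    rw [sr_ne hb, mul_zero]
  · intro hk; exact absurd (Finset.mem_univ j) hk

/-- a vector whose pairings with the nodes of `S` are even: `u y - y` has only even pairings -/
theorem even_pairing_rep_sub {S : Set I} (hS : ∀ i ∉ S, ∀ k, Even (A k i)) {y : I → ℤ}
    (hy : ∀ j ∈ S, Even (pairing A j y)) (u : W) : ∀ j, Even (pairing A j (rep cs h u y - y)) := by
  obtain ⟨ω, rfl⟩ := cs.wordProd_surjective u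
  induction ω with
  | nil =>
    intro j
    rw [wordProd_nil, map_one, Module.End.one_apply, sub_self]
    exact even_pairing_of_mem (zero_mem (EE I 1)) j
  | cons i ω ih =>
    intro j
    rw [wordProd_cons, rep_mul_apply, rep_simple, refl_apply]
    set z := rep cs h (cs.wordProd ω) y with hz
    have e : z - Pi.single i (pairing A i z) - y = (z - y) + (-(pairing A i z)) • (sr i : I → ℤ) := by
      have h1 : (Pi.single i (pairing A i z) : I → ℤ) = (pairing A i z) • (sr i : I → ℤ) := by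
        rw [sr, ← Pi.single_smul, smul_eq_mul, mul_one]
      rw [h1, neg_smul]
      abel
    rw [e, pairing_add, pairing_smul]
    refine (ih j).add ?_
    by_cases hi : i ∈ S
    · refine Even.mul_right (Even.neg ?_) _
      have e1 : z = (z - y) + y := by abel
      rw [e1, pairing_add]
      exact (ih i).add (hy i hi)
    · refine Even.mul_left ?_ _
      rw [pairing_sr']
      exact hS i hi j

/-- **`w` of odd order respecting the parities of the pairings of the nodes of `S` is trivial** -/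
theorem eq_one_of_pairing' {w : W} (hw : Odd (orderOf w)) {S : Set I} (hS : ∀ i ∉ S, ∀ k, Even (A k i))
    (hp : ∀ j ∈ S, ∀ i ∈ S, (Even (pairing A j (rep cs h w (sr i))) ↔ Even (pairing A j (sr i)))) : w = 1 := by
  have h1 : ∀ j ∈ S, ∀ v : I → ℤ, Even (pairing A j (rep cs h w v - v)) := by
    intro j hj v
    have hv : v = ∑ i, v i • (sr i : I → ℤ) := by
      funext k
      rw [Finset.sum_apply, Finset.sum_eq_single k]
      · rw [Pi.smul_apply, sr_self, smul_eq_mul, mul_one]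
      · intro b _ hb
        rw [Pi.smul_apply, sr_ne hb.symm, smul_zero]
      · intro hk; exact absurd (Finset.mem_univ k) hk
    let L : (I → ℤ) →+ ℤ := ⟨⟨pairing A j, by simp only [pairing, _root_.Pi.zero_apply, _root_.MulZeroClass.mul_zero, _root_.Finset.sum_const_zero]⟩, pairing_add A j⟩
    have hL : ∀ x, L x = pairing A j x := fun _ => rfl
    have h2 : rep cs h w v - v = ∑ i, v i • (rep cs h w (sr i) - sr i) := by
      conv_lhs => rw [hv]
      rw [map_sum, ← Finset.sum_sub_distrib]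
      refine Finset.sum_congr rfl fun i _ => ?_
      rw [map_smul, smul_sub]
    rw [h2, ← hL, map_sum]
    refine Finset.even_sum _ fun i _ => ?_
    rw [hL, pairing_smul]
    refine Even.mul_left ?_ _
    by_cases hi : i ∈ S
    · have h3 := hp j hj i hi
      rw [← hL, map_sub, Int.even_sub, hL, hL]
      exact h3
    · refine even_pairing_rep_sub cs h hS (y := sr i) (fun k _ => ?_) w j
      rw [pairing_sr']
      exact hS i hi k
  have h2 : ∀ j, ∀ v : I → ℤ, Even (pairing A j (rep cs h (w ^ 2) v - v)) := by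
    intro j v
    set y := rep cs h w v - v with hy
    have h3 := even_pairing_rep_sub cs h hS (y := y) (fun j hj => h1 j hj v) w j
    have e : rep cs h (w ^ 2) v - v = (rep cs h w y - y) + (2 : ℤ) • y := by
      rw [pow_two, rep_mul_apply, hy, map_sub, two_smul]
      abel
    rw [e, pairing_add, pairing_smul]
    exact h3.add (even_two_mul _)
  have hodd : Odd (orderOf (w ^ 2)) := hw.of_dvd_nat (orderOf_pow_dvd 2)
  have h3 : w ^ 2 = 1 := by
    refine eq_one_of_pairing cs h hodd fun j x _ => ?_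
    have h4 := h2 j x
    let L : (I → ℤ) →+ ℤ := ⟨⟨pairing A j, by simp only [pairing, _root_.Pi.zero_apply, _root_.MulZeroClass.mul_zero, _root_.Finset.sum_const_zero]⟩, pairing_add A j⟩
    have hL : ∀ x, L x = pairing A j x := fun _ => rfl
    rw [← hL, map_sub, Int.even_sub, hL, hL] at h4
    exact h4
  have h5 : orderOf w ∣ 2 := orderOf_dvd_of_pow_eq_one h3
  rcases (Nat.dvd_prime Nat.prime_two).1 h5 with h6 | h6
  · exact orderOf_eq_one_iff.1 h6
  · rw [h6] at hw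
    exact absurd hw (by decide)

end weyl

universe u

variable {I W : Type*} {Y : Type u} [Fintype I] [DecidableEq I] [Group W] [Group Y] {M : CoxeterMatrix I}
  {cs : CoxeterSystem M W} {A : I → I → ℤ} {h : IsCartan M A} {p : ℕ} {T : Subgroup Y} {n : I → Y}
  {X : (I → ℤ) → Subgroup Y}

/-- **`TWFaithful`**, general form -/
theorem twFaithful_gen (R : RGD cs h p T n X) {S : Set I} (hS : ∀ i ∉ S, ∀ k, Even (A k i)) (t : I → Y)
    (htT : ∀ j ∈ S, t j ∈ T) (ht2 : ∀ j ∈ S, ∃ k : ℕ, t j ^ 2 ^ k = 1)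
    (htc : ∀ j ∈ S, ∀ i ∈ S, ∀ u : W, ((∀ y ∈ X (rep cs h u (sr i)), t j * y = y * t j) ↔
      Even (pairing A j (rep cs h u (sr i))))) :
    TWFaithful cs T n R.nsys := by
  intro w g hg hodd hc
  refine eq_one_of_pairing' cs h hodd hS ?_
  intro j hj i hi
  have hx : IsRoot cs h (sr i) := isRoot_sr cs h i
  have htc1 := htc j hj i hi 1
  rw [map_one, Module.End.one_apply] at htc1
  rw [← htc j hj i hi w, ← htc1, ← R.conj_rp hg hx]
  have hgt : g * t j = t j * g := hc (t j) (htT j hj) (ht2 j hj)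
  have h3 : g⁻¹ * t j = t j * g⁻¹ := by
    calc g⁻¹ * t j = g⁻¹ * (t j * g) * g⁻¹ := by group
      _ = g⁻¹ * (g * t j) * g⁻¹ := by rw [hgt]
      _ = t j * g⁻¹ := by group
  constructor
  · intro h1 y hy
    have h2 := h1 (g * y * g⁻¹) ⟨y, hy, rfl⟩
    have e1 : t j * (g * y * g⁻¹) = g * (t j * y) * g⁻¹ := by
      calc t j * (g * y * g⁻¹) = (t j * g) * y * g⁻¹ := by group
        _ = (g * t j) * y * g⁻¹ := by rw [hgt]
        _ = g * (t j * y) * g⁻¹ := by group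
    have e2 : g * y * g⁻¹ * t j = g * (y * t j) * g⁻¹ := by
      calc g * y * g⁻¹ * t j = g * y * (g⁻¹ * t j) := by group
        _ = g * y * (t j * g⁻¹) := by rw [h3]
        _ = g * (y * t j) * g⁻¹ := by group
    rw [e1, e2] at h2
    exact mul_left_cancel (mul_right_cancel h2)
  · rintro h1 _ ⟨y, hy, rfl⟩
    show t j * (g * y * g⁻¹) = g * y * g⁻¹ * t j
    calc t j * (g * y * g⁻¹) = (t j * g) * y * g⁻¹ := by group
      _ = (g * t j) * y * g⁻¹ := by rw [hgt]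
      _ = g * (t j * y) * g⁻¹ := by group
      _ = g * (y * t j) * g⁻¹ := by rw [h1 y hy]
      _ = g * y * (t j * g⁻¹) := by group
      _ = g * y * (g⁻¹ * t j) := by rw [h3]
      _ = g * y * g⁻¹ * t j := by group

end Cfsg.Agent.H69.OQ
end

-- part: H69/OQ/InNode
section
/-!
# S4884, own odd characteristic: the nodes of the Witt frames (helper69)

* `slNode_of` : `SLNode` from a group `K` of any universe and a parametrisation of `X (sr i) - 1`;
* `slNode_X` : the nodes `i + 1 < n`; `slNode_Z` : the last node;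
* `twFaithful_C` : `TWFaithful`.
-/

set_option autoImplicit false
set_option linter.unusedSectionVars false

namespace Cfsg.Agent.H69.OQ

open Cfsg.Agent.ChevalleyStructure.CoxeterGeom Cfsg.Agent.Tits.Roots Cfsg.Agent.Nodes.TypeC
open Cfsg.Agent.Nodes Cfsg.Agent.Nodes.Comb Cfsg.Agent.Nodes.Reps Cfsg.Agent.Nodes.WittRoot Cfsg.Agent.Nodes.BNOf
open Cfsg.Agent.Nodes.WittRGD Cfsg.Agent.Nodes.RGDLib Cfsg.Agent.H684.OQ
open Cfsg.Agent.TitsThree Cfsg.Agent.TitsThree.Siegel Cfsg.Agent.TitsThree.WittFrame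
  Cfsg.Agent.TitsThree.WittWeyl Cfsg.Agent.TitsThree.FrameCN

/-- `SLNode` from a parametrisation of `X (sr i) - 1` by a finite group of any universe -/
theorem slNode_of {I : Type*} {Y : Type*} [DecidableEq I] [Group Y] {T : Subgroup Y} {n : I → Y}
    {X : (I → ℤ) → Subgroup Y} {i : I} {K : Type*} [Group K] [Finite K] (f : K →* Y) (hf : ∀ k, f k ∈ T) (g : K → Y)
    (hg : ∀ k, g k ∈ X (sr i)) (hg1 : ∀ k, g k ≠ 1) (hinj : Function.Injective g)
    (hsurj : ∀ x ∈ X (sr i), x ≠ 1 → ∃ k, g k = x)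
    (hn : ∀ k, ∃ a ∈ X (sr i), ∃ b ∈ X (sr i), n i * g k * (n i)⁻¹ = a * f k * n i * b) : SLNode T n X i := by
  let e0 : K ≃ {x : Y // x ∈ X (sr i) ∧ x ≠ 1} := Equiv.ofBijective (fun k => ⟨g k, hg k, hg1 k⟩)
    ⟨fun a b h => hinj (congrArg Subtype.val h), fun x => by
      obtain ⟨k, hk⟩ := hsurj x.1 x.2.1 x.2.2
      exact ⟨k, Subtype.ext hk⟩⟩
  have hc : Countable K := Finite.to_countable
  let s : Shrink.{0} K ≃* K := Shrink.mulEquiv
  have hfin : Finite (Shrink.{0} K) := Finite.of_equiv K s.symm.toEquiv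
  refine ⟨Shrink.{0} K, inferInstance, hfin, f.comp s.toMonoidHom, e0.symm.trans s.symm.toEquiv,
    fun k => hf _, fun x => ?_⟩
  obtain ⟨a, ha, b, hb, h⟩ := hn (e0.symm x)
  refine ⟨a, ha, b, hb, ?_⟩
  have h1 : g (e0.symm x) = x.1 := congrArg Subtype.val (e0.apply_symm_apply x)
  have h2 : (f.comp s.toMonoidHom) ((e0.symm.trans s.symm.toEquiv) x) = f (e0.symm x) := by
    change f (s (s.symm (e0.symm x))) = f (e0.symm x)
    rw [s.apply_symm_apply]
  rw [h2, ← h1]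
  exact h

variable {F : Type*} [Field F] {V : Type*} [AddCommGroup V] [Module F V] {H : HForm F V} {n : ℕ}
  {Fr : Frame H (Fin n)}

/-! ### The torus elements, continued -/

/-- isometries of the ambient group are determined by the images of the frame and of `V0` -/
theorem ext_of {G0 : Subgroup (V ≃ₗ[F] V)} (hA : Amb Fr G0) {g k : V ≃ₗ[F] V} (hb : ∀ x, g (Fr.b x) = k (Fr.b x))
    (h0 : ∀ w ∈ Fr.V0, g w = k w) : g = k := by
  have h1 : g⁻¹ * k = 1 := by
    refine Cfsg.Agent.Nodes.WittRGD.Amb.eq_one_of_fix hA (fun x => ?_) fun w hw => ?_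
    · rw [mul_apply', ← hb, ← mul_apply', inv_mul_cancel]; rfl
    · rw [mul_apply', ← h0 w hw, ← mul_apply', inv_mul_cancel]; rfl
  exact inv_mul_eq_one.1 h1

theorem hX_mul {G0 : Subgroup (V ≃ₗ[F] V)} (hA : Amb Fr G0) {a b : Fin n × Bool} (hab : a.1 ≠ b.1) {s t : F}
    (hs : s ≠ 0) (ht : t ≠ 0) : hX Fr a b (s * t) = hX Fr a b s * hX Fr a b t := by
  have hst := mul_ne_zero hs ht
  refine ext_of hA (fun z => ?_) fun w hw => ?_
  · rw [mul_apply']
    by_cases h1 : z.1 = a.1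
    · rcases eq_or_ng h1 with rfl | rfl
      · rw [hX_a Fr hab hst, hX_a Fr hab ht, map_smul, hX_a Fr hab hs, smul_smul, mul_comm]
      · have e1 : hX Fr a b (s * t) (Fr.b (ng a)) = _ := hX_na Fr hab hst
        have e3 : hX Fr a b t (Fr.b (ng a)) = _ := hX_na Fr hab ht
        rw [e1, e3, map_smul, hX_na Fr hab hs, smul_smul, map_mul, mul_inv_rev]
    by_cases h2 : z.1 = b.1
    · rcases eq_or_ng h2 with rfl | rfl
      · rw [hX_b Fr hab hst, hX_b Fr hab ht, map_smul, hX_b Fr hab hs, smul_smul, map_mul, mul_comm]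
      · have e1 : hX Fr a b (s * t) (Fr.b (ng b)) = _ := hX_nb Fr hab hst
        have e3 : hX Fr a b t (Fr.b (ng b)) = _ := hX_nb Fr hab ht
        rw [e1, e3, map_smul, hX_nb Fr hab hs, smul_smul, mul_inv_rev]
    · rw [hX_ne Fr hab h1 h2, hX_ne Fr hab h1 h2, hX_ne Fr hab h1 h2]
  · rw [mul_apply', hX_V0 Fr hab hw, hX_V0 Fr hab hw, hX_V0 Fr hab hw]

theorem nX_eq_hX {G0 : Subgroup (V ≃ₗ[F] V)} (hA : Amb Fr G0) {a b : Fin n × Bool} (hab : a.1 ≠ b.1) {s : F}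
    (hs : s ≠ 0) : nX Fr a b s = hX Fr a b s * nX Fr a b 1 := by
  have hσ : H.σ s ≠ 0 := by simpa using hs
  have hη1 := Fr.η_ne a
  have hη2 := Fr.η_ne b
  have hε := H.ε_ne
  refine ext_of hA (fun z => ?_) fun w hw => ?_
  · rw [mul_apply']
    by_cases h1 : z.1 = a.1
    · rcases eq_or_ng h1 with rfl | rfl
      · rw [nX_apply_self Fr hab hs, nX_apply_self Fr hab one_ne_zero, inv_one, one_smul, map_neg,
          hX_nb Fr hab hs]
      · have e1 : nX Fr a b s (Fr.b (ng a)) = _ := nX_apply_neg' Fr hab hs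
        have e2 : nX Fr a b 1 (Fr.b (ng a)) = _ := nX_apply_neg' Fr hab one_ne_zero
        rw [e1, e2, map_neg, map_smul, hX_b Fr hab hs, smul_smul, map_one, mul_one]
    by_cases h2 : z.1 = b.1
    · rcases eq_or_ng h2 with rfl | rfl
      · rw [nX_apply_self' Fr hab hs, nX_apply_self' Fr hab one_ne_zero, map_smul, hX_na Fr hab hs, smul_smul,
          map_one, mul_one, mul_inv_rev, mul_comm]
      · have e1 : nX Fr a b s (Fr.b (ng b)) = _ := nX_apply_neg Fr hab hs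
        have e2 : nX Fr a b 1 (Fr.b (ng b)) = _ := nX_apply_neg Fr hab one_ne_zero
        rw [e1, e2, one_smul, hX_a Fr hab hs]
    · rw [nX_apply_of_ne Fr hab h1 h2, nX_apply_of_ne Fr hab h1 h2, hX_ne Fr hab h1 h2]
  · rw [mul_apply', nX_apply_V0 Fr hab hw, nX_apply_V0 Fr hab hw, hX_V0 Fr hab hw]

/-- the rank one identity of the type I nodes -/
theorem nX_conj_eq {G0 : Subgroup (V ≃ₗ[F] V)} (hA : Amb Fr G0) {a b : Fin n × Bool} (hab : a.1 ≠ b.1) {s : F}
    (hs : s ≠ 0) : nX Fr a b 1 * Fr.X a b s⁻¹ * (nX Fr a b 1)⁻¹ =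
      Fr.X a b (-s) * hX Fr a b s * nX Fr a b 1 * Fr.X a b (-s) := by
  have e : Fr.X a b (-s) = (Fr.X a b s)⁻¹ := Fr.X_neg a b s
  rw [nX_conj_X Fr hab one_ne_zero, mul_assoc (Fr.X a b (-s)), ← nX_eq_hX hA hab hs, nX, e, inv_one, one_pow, one_mul]
  group

/-- the homomorphism `s ↦ h(s)` -/
noncomputable def hXu {G0 : Subgroup (V ≃ₗ[F] V)} (hA : Amb Fr G0) {a b : Fin n × Bool} (hab : a.1 ≠ b.1) :
    Fˣ →* (V ≃ₗ[F] V) :=
  MonoidHom.mk' (fun s => hX Fr a b (s : F)) fun s t => by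
    rw [Units.val_mul]
    exact hX_mul hA hab s.ne_zero t.ne_zero

theorem nx_ne {i : Fin n} (hi : (i : ℕ) + 1 < n) : ((i, true) : Fin n × Bool).1 ≠ (nx i).1 := by
  unfold nx; rw [dif_pos hi]; simp [Fin.ext_iff]

variable {K0 : Type*} [Group K0] (M : Model Fr K0)

/-- the type I nodes -/
theorem slNode_X [Finite F] (hA : Amb Fr M.I) {p0 : Fr.Adm} {i : Fin n} (hi : (i : ℕ) + 1 < n)
    (hmem : ∀ i, WittRGD.nn Fr p0 i ∈ M.I) :
    SLNode (WittModel.T M) (fun i => M.φ ⟨WittRGD.nn Fr p0 i, hmem i⟩) (WittModel.X M) i := by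
  have hne := nx_ne hi
  have hX1 : rg Fr (sr i) = XG Fr (i, true) (nx i) := by rw [rg_sr, PG_ne Fr hne]
  have hmX : ∀ s, M.φ ⟨Fr.X (i, true) (nx i) s, M.hX _ _ _⟩ ∈ WittModel.X M (sr i) := by
    intro s
    refine WittModel.mem_X_of M _ ?_
    rw [hX1]
    exact ⟨s, rfl⟩
  have hX0 : M.φ ⟨Fr.X (i, true) (nx i) 0, M.hX _ _ _⟩ = 1 := by
    have : (⟨Fr.X (i, true) (nx i) 0, M.hX _ _ _⟩ : M.I) = 1 := Subtype.ext (Fr.X_zero _ _)
    rw [this, map_one]
  let f : Fˣ →* K0 := MonoidHom.mk' (fun s => M.φ ⟨hX Fr (i, true) (nx i) (s : F), hX_mem M _ _ _⟩) fun s t => by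
    rw [← map_mul]
    (with_reducible congr 1)
    apply Subtype.ext
    exact (hXu hA hne).map_mul s t
  refine slNode_of (K := Fˣ) f (fun k => ?_) (fun s => M.φ ⟨Fr.X (i, true) (nx i) ((s : F)⁻¹), M.hX _ _ _⟩)
    (fun k => hmX _) (fun k h => ?_) (fun s t h => ?_) (fun x hx hx1 => ?_) (fun s => ?_)
  · exact Subgroup.mem_map_of_mem _ (Subgroup.mem_subgroupOf.2 ⟨hX_mem M _ _ _, mono_hX Fr hne k.ne_zero⟩)
  · rw [← hX0] at h
    have h1 := model_X_inj M hne h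
    exact inv_ne_zero k.ne_zero h1
  · have h1 := model_X_inj M hne h
    exact Units.ext (inv_injective h1)
  · obtain ⟨g, hg, hgx, rfl⟩ := (WittModel.mem_X M).1 hx
    rw [hX1] at hgx
    obtain ⟨s, rfl⟩ := hgx
    have hs : s ≠ 0 := by
      rintro rfl
      exact hx1 hX0
    refine ⟨Units.mk0 s⁻¹ (inv_ne_zero hs), ?_⟩
    simp only [Units.val_mk0, inv_inv]
  · refine ⟨_, hmX (-(s : F)), _, hmX (-(s : F)), ?_⟩
    have hnn : WittRGD.nn Fr p0 i = nX Fr (i, true) (nx i) 1 := by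
      unfold WittRGD.nn; rw [if_pos hi]
    change M.φ _ * M.φ _ * (M.φ _)⁻¹ = M.φ _ * M.φ _ * M.φ _ * M.φ _
    rw [← map_inv, ← map_mul, ← map_mul, ← map_mul, ← map_mul, ← map_mul]
    (with_reducible congr 1)
    apply Subtype.ext
    change WittRGD.nn Fr p0 i * _ * (WittRGD.nn Fr p0 i)⁻¹ = _ * _ * WittRGD.nn Fr p0 i * _
    rw [hnn]
    exact nX_conj_eq hA hne s.ne_zero

/-! ### The last node -/

/-- the middle factor of `nZ a p` -/
def al (Fr : Frame H (Fin n)) (a : Fin n × Bool) (p : Fr.Adm) : Fr.Adm := Frame.Adm.smul (-(Fr.η a * (H.σ p.c)⁻¹)) p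

/-- the inverse of `al` -/
def be (Fr : Frame H (Fin n)) (a : Fin n × Bool) (r : Fr.Adm) : Fr.Adm := Frame.Adm.smul (-((Fr.η a)⁻¹ * r.c⁻¹)) r

theorem be_al (a : Fin n × Bool) {p : Fr.Adm} (hp : p.c ≠ 0) : be Fr a (al Fr a p) = p := by
  have hσ : H.σ p.c ≠ 0 := by simpa using hp
  have hη := Fr.η_ne a
  rw [be, al, Frame.Adm.smul_smul]
  have h1 : -((Fr.η a)⁻¹ * (Frame.Adm.smul (-(Fr.η a * (H.σ p.c)⁻¹)) p).c⁻¹) * -(Fr.η a * (H.σ p.c)⁻¹) = 1 := by
    rw [Frame.Adm.smul_c]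
    simp only [map_neg, map_mul, map_inv₀, H.σσ, Fr.σ_η]
    field_simp
  rw [h1, Frame.Adm.one_smul]

theorem al_be (a : Fin n × Bool) {r : Fr.Adm} (hr : r.c ≠ 0) : al Fr a (be Fr a r) = r := by
  have hσ : H.σ r.c ≠ 0 := by simpa using hr
  have hη := Fr.η_ne a
  rw [be, al, Frame.Adm.smul_smul]
  have h1 : -(Fr.η a * (H.σ (Frame.Adm.smul (-((Fr.η a)⁻¹ * r.c⁻¹)) r).c)⁻¹) * -((Fr.η a)⁻¹ * r.c⁻¹) = 1 := by
    rw [Frame.Adm.smul_c]
    simp only [map_neg, map_mul, map_inv₀, H.σσ, Fr.σ_η]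
    field_simp
  rw [h1, Frame.Adm.one_smul]

theorem al_c (a : Fin n × Bool) {p : Fr.Adm} (hp : p.c ≠ 0) : (al Fr a p).c ≠ 0 := by
  have hσ : H.σ p.c ≠ 0 := by simpa using hp
  have hη := Fr.η_ne a
  rw [al, Frame.Adm.smul_c]
  simp only [map_neg, map_mul, map_inv₀, H.σσ, Fr.σ_η]
  have : (Fr.η a)⁻¹ ≠ 0 := inv_ne_zero hη
  simp only [hη, hσ, hp, _root_.mul_neg, _root_.neg_mul, _root_.neg_neg, _root_.ne_eq, _root_.mul_eq_zero, _root_.inv_eq_zero, _root_.or_self, _root_.not_false_eq_true]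

theorem be_c (a : Fin n × Bool) {p : Fr.Adm} (hp : p.c ≠ 0) : (be Fr a p).c ≠ 0 := by
  have hσ : H.σ p.c ≠ 0 := by simpa using hp
  have hη := Fr.η_ne a
  rw [be, Frame.Adm.smul_c]
  simp only [map_neg, map_mul, map_inv₀, H.σσ, Fr.σ_η]
  simp only [hη, hσ, hp, _root_.inv_inv, _root_.mul_neg, _root_.neg_mul, _root_.neg_neg, _root_.ne_eq, _root_.mul_eq_zero, _root_.inv_eq_zero, _root_.or_self, _root_.not_false_eq_true]

/-- the last node, from a group structure on the nontrivial admissible pairs -/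
theorem slNode_Z {p : ℕ} {W : Type*} [Group W] (cs : CoxeterSystem (CoxeterMatrix.B n) W) (hA : Amb Fr M.I)
    {p0 : Fr.Adm} (hp0 : p0.c ≠ 0) {i : Fin n} (hi : ¬ (i : ℕ) + 1 < n)
    (hmem : ∀ i, WittRGD.nn Fr p0 i ∈ M.I)
    (R : RGD cs (isCartan n) p (WittModel.T M) (fun i => M.φ ⟨WittRGD.nn Fr p0 i, hmem i⟩) (WittModel.X M))
    {K : Type*} [Group K] [Finite K] (P : K → Fr.Adm) (hinj : Function.Injective P) (hP : ∀ k, (P k).c ≠ 0)
    (hsurj : ∀ p : Fr.Adm, p.c ≠ 0 → ∃ k, P k = p)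
    (hmul : ∀ k k', nZ Fr (i, true) (P (k * k')) * (nZ Fr (i, true) p0)⁻¹ =
      (nZ Fr (i, true) (P k) * (nZ Fr (i, true) p0)⁻¹) * (nZ Fr (i, true) (P k') * (nZ Fr (i, true) p0)⁻¹)) :
    SLNode (WittModel.T M) (fun i => M.φ ⟨WittRGD.nn Fr p0 i, hmem i⟩) (WittModel.X M) i := by
  have hnx : nx i = (i, true) := by unfold nx; rw [dif_neg hi]
  have hnn : WittRGD.nn Fr p0 i = nZ Fr (i, true) p0 := by unfold WittRGD.nn; rw [if_neg hi]
  have hX1 : rg Fr (sr i) = ZG Fr (i, true) := by rw [rg_sr, hnx, PG_self]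
  have hX2 : rg Fr (-sr i) = ZG Fr (ng (i, true)) := by rw [rg_neg_sr, hnx, PG_self]
  set N : K0 := M.φ ⟨WittRGD.nn Fr p0 i, hmem i⟩ with hN
  have hmZ : ∀ q, M.φ ⟨Fr.Z (i, true) q, M.hZ _ _⟩ ∈ WittModel.X M (sr i) := by
    intro q
    refine WittModel.mem_X_of M _ ?_
    rw [hX1]
    exact ⟨q, rfl⟩
  have hmZ' : ∀ q, M.φ ⟨Fr.Z (ng (i, true)) q, M.hZ _ _⟩ ∈ WittModel.X M (-sr i) := by
    intro q
    refine WittModel.mem_X_of M _ ?_
    rw [hX2]
    exact ⟨q, rfl⟩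
  have hZ1 : ∀ a : Fin n × Bool, M.φ ⟨Fr.Z a 1, M.hZ _ _⟩ = 1 := by
    intro a
    have : (⟨Fr.Z a 1, M.hZ _ _⟩ : M.I) = 1 := Subtype.ext (Fr.Z_one _)
    rw [this, map_one]
  have hc0 : ∀ q : Fr.Adm, q.c = 0 → q = 1 := by
    intro q hq
    have h1 := q.ok
    rw [hq] at h1
    exact Frame.Adm.ext (hA.ok_aniso _ h1) hq
  have hrep : rep cs (isCartan n) (cs.simple i) (sr i) = -sr i := by
    rw [rep_simple, refl_apply, pairing_sr', (isCartan n).diag]
    funext k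
    by_cases hk : k = i
    · subst hk
      simp [sr]
    · simp [sr, hk]
  have hconj : ∀ x, x ∈ WittModel.X M (-sr i) ↔ N⁻¹ * x * N ∈ WittModel.X M (sr i) := by
    intro x
    have h1 := R.conj i (sr i) (isRoot_sr cs _ i)
    rw [hrep] at h1
    rw [← h1, mem_cj]
  have hZmem : ∀ a q, nZ Fr a q ∈ M.I := fun a q => mul_mem (mul_mem (M.hZ _ _) (M.hZ _ _)) (M.hZ _ _)
  have hDmem : ∀ q, nZ Fr (i, true) q * (nZ Fr (i, true) p0)⁻¹ ∈ M.I :=
    fun q => mul_mem (hZmem _ _) (inv_mem (hZmem _ _))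
  let f : K →* K0 := MonoidHom.mk' (fun k => M.φ ⟨nZ Fr (i, true) (P k) * (nZ Fr (i, true) p0)⁻¹, hDmem _⟩)
    fun s t => by
      rw [← map_mul]
      (with_reducible congr 1)
      apply Subtype.ext
      exact hmul s t
  have hsg : ∀ x, sg i (sg i x) = x := sg_sg i
  refine slNode_of (K := K) f (fun k => ?_)
    (fun k => N⁻¹ * M.φ ⟨Fr.Z (ng (i, true)) (al Fr (i, true) (P k)), M.hZ _ _⟩ * N)
    (fun k => (hconj _).1 (hmZ' _)) (fun k h => ?_) (fun s t h => ?_) (fun x hx hx1 => ?_) (fun k => ?_)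
  · refine Subgroup.mem_map_of_mem _ (Subgroup.mem_subgroupOf.2 ⟨hDmem _, ?_⟩)
    exact ((mono_nZ hi (hP k)).mul ((mono_nZ hi hp0).inv (sg_sg i))).congr fun x => sg_sg i x
  · have h1 : M.φ ⟨Fr.Z (ng (i, true)) (al Fr (i, true) (P k)), M.hZ _ _⟩ = 1 := by
      have h2 : N⁻¹ * M.φ ⟨Fr.Z (ng (i, true)) (al Fr (i, true) (P k)), M.hZ _ _⟩ * N = N⁻¹ * 1 * N := by
        rw [h]; group
      exact mul_left_cancel (mul_right_cancel h2)
    rw [← hZ1 (ng (i, true))] at h1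
    have h2 := congrArg Frame.Adm.c (model_Z_inj M h1)
    exact al_c _ (hP k) h2
  · have h1 : M.φ ⟨Fr.Z (ng (i, true)) (al Fr (i, true) (P s)), M.hZ _ _⟩ =
        M.φ ⟨Fr.Z (ng (i, true)) (al Fr (i, true) (P t)), M.hZ _ _⟩ :=
      mul_left_cancel (mul_right_cancel h)
    have h2 := congrArg (be Fr (i, true)) (model_Z_inj M h1)
    rw [be_al _ (hP s), be_al _ (hP t)] at h2
    exact hinj h2
  · have h1 : N * x * N⁻¹ ∈ WittModel.X M (-sr i) := by
      rw [hconj]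
      have : N⁻¹ * (N * x * N⁻¹) * N = x := by group
      rw [this]
      exact hx
    obtain ⟨g, hg, hgx, hgx'⟩ := (WittModel.mem_X M).1 h1
    rw [hX2] at hgx
    obtain ⟨r, rfl⟩ := hgx
    have hr : r.c ≠ 0 := by
      intro h0
      have h5 := hc0 r h0
      subst h5
      have h6 : N * x * N⁻¹ = 1 := hgx'.trans (hZ1 _)
      apply hx1
      have : x = N⁻¹ * (N * x * N⁻¹) * N := by group
      rw [this, h6]
      group
    obtain ⟨k, hk⟩ := hsurj (be Fr (i, true) r) (be_c _ hr)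
    refine ⟨k, ?_⟩
    change N⁻¹ * M.φ ⟨Fr.Z (ng (i, true)) (al Fr (i, true) (P k)), M.hZ _ _⟩ * N = x
    have h2 : al Fr (i, true) (P k) = r := by rw [hk, al_be _ hr]
    have h3 : (⟨Fr.Z (ng (i, true)) (al Fr (i, true) (P k)), M.hZ _ _⟩ : M.I) = ⟨Fr.Z (ng (i, true)) r, hg⟩ :=
      Subtype.ext (by rw [h2])
    rw [h3, ← hgx']
    group
  · refine ⟨_, inv_mem (hmZ (P k)), _,
      inv_mem (hmZ (Frame.Adm.smul (H.ε * (P k).c * (H.σ (P k).c)⁻¹) (P k))), ?_⟩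
    change N * (N⁻¹ * _ * N) * N⁻¹ = _ * M.φ _ * N * _
    have e1 : N * (N⁻¹ * M.φ ⟨Fr.Z (ng (i, true)) (al Fr (i, true) (P k)), M.hZ _ _⟩ * N) * N⁻¹ =
        M.φ ⟨Fr.Z (ng (i, true)) (al Fr (i, true) (P k)), M.hZ _ _⟩ := by group
    rw [e1, hN, ← map_inv, ← map_inv, ← map_mul, ← map_mul, ← map_mul]
    congr 1
    apply Subtype.ext
    change Fr.Z (ng (i, true)) (al Fr (i, true) (P k)) = (Fr.Z (i, true) (P k))⁻¹ *
      (nZ Fr (i, true) (P k) * (nZ Fr (i, true) p0)⁻¹) * WittRGD.nn Fr p0 i *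
        (Fr.Z (i, true) (Frame.Adm.smul (H.ε * (P k).c * (H.σ (P k).c)⁻¹) (P k)))⁻¹
    have e2 : nZ Fr (i, true) (P k) = Fr.Z (i, true) (P k) * Fr.Z (ng (i, true)) (al Fr (i, true) (P k)) *
        Fr.Z (i, true) (Frame.Adm.smul (H.ε * (P k).c * (H.σ (P k).c)⁻¹) (P k)) := rfl
    rw [hnn, e2]
    group

end Cfsg.Agent.H69.OQ
end

-- part: H69/OQ/InC
section
/-!
# S4884, own odd characteristic: `HasIn` for the Witt frames (helper69)

* `twFaithful_C`; `hasIn_C` : `HasIn` from the last node, `NoFix` and the commutativity on the anisotropic part;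
* `slNode_zero` : the last node when the anisotropic part is zero.
-/

set_option autoImplicit false
set_option linter.unusedSectionVars false

namespace Cfsg.Agent.H69.OQ

open Cfsg.Agent.ChevalleyStructure.CoxeterGeom Cfsg.Agent.Tits.Roots Cfsg.Agent.Nodes.TypeC
open Cfsg.Agent.Nodes Cfsg.Agent.Nodes.Comb Cfsg.Agent.Nodes.Reps Cfsg.Agent.Nodes.WittRoot Cfsg.Agent.Nodes.BNOf
open Cfsg.Agent.Nodes.WittRGD Cfsg.Agent.Nodes.RGDLib Cfsg.Agent.H684.OQ Cfsg.Agent.Nodes.WittAll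
open Cfsg.Agent.TitsThree Cfsg.Agent.TitsThree.Siegel Cfsg.Agent.TitsThree.WittFrame
  Cfsg.Agent.TitsThree.WittWeyl Cfsg.Agent.TitsThree.FrameCN

variable {F : Type*} [Field F] {V : Type*} [AddCommGroup V] [Module F V] {H : HForm F V} {n : ℕ}
  {Fr : Frame H (Fin n)} {K0 : Type*} [Group K0] (M : Model Fr K0)

/-- the roots of the orbit of a node `i + 1 < n` -/
theorem exists_of_rep {W : Type*} [Group W] (cs : CoxeterSystem (CoxeterMatrix.B n) W) {i : Fin n}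
    (hi : (i : ℕ) + 1 < n) (u : W) :
    ∃ a b : Fin n × Bool, a.1 ≠ b.1 ∧ ee (rep cs (isCartan n) u (sr i)) = wt a + wt b := by
  induction u using cs.simple_induction_left with
  | one =>
    rw [map_one, Module.End.one_apply]
    exact ⟨(i, true), nx i, nx_ne hi, ee_sr i⟩
  | mul_simple_left w j ih =>
    obtain ⟨a, b, hab, h⟩ := ih
    exact ⟨sg j a, sg j b, fun h' => hab ((sg_fst_eq j).1 h'), by rw [rep_mul_apply, rep_simple, ee_refl_of h]⟩

/-- the scalar of `h_j(-1)` on the vector `b z` -/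
theorem hX_neg_one (h2 : (2 : F) ≠ 0) {j : Fin n} (hj : (j : ℕ) + 1 < n) (z : Fin n × Bool) :
    ∃ l : F, hX Fr (j, true) (nx j) (-1) (Fr.b z) = l • Fr.b z ∧ (l = 1 ∨ l = -1) ∧ (Even (Cf j (wt z)) ↔ l = 1) := by
  have hne := nx_ne hj
  have h1 : (-1 : F) ≠ 0 := neg_ne_zero.2 one_ne_zero
  have h11 : (-1 : F) ≠ 1 := by
    intro h
    apply h2
    have : (1 : F) + 1 = 0 := by nth_rewrite 1 [← h]; ring
    rw [← this]; norm_num
  have hnx : (nx j).1 = (⟨j + 1, hj⟩ : Fin n) := by unfold nx; rw [dif_pos hj]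
  have hCf : Cf j (wt z) = wt z j - wt z ⟨j + 1, hj⟩ := by unfold Cf; rw [dif_pos hj]
  have hjj : (⟨(j : ℕ) + 1, hj⟩ : Fin n) ≠ j := by simp [Fin.ext_iff]
  by_cases hz1 : z.1 = j
  · have e : Cf j (wt z) = if z.2 then 1 else -1 := by
      have h' : ¬ ((⟨j + 1, hj⟩ : Fin n) = z.1) := by rw [hz1]; exact hjj
      rw [hCf, wt_apply, wt_apply, if_pos hz1.symm, if_neg h', sub_zero]
    have hodd : ¬ Even (Cf j (wt z)) := by
      rw [e]; split_ifs <;> decide
    refine ⟨-1, ?_, Or.inr rfl, fun h => absurd h hodd, fun h => absurd h h11⟩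
    rcases eq_or_ng (a := z) (b := (j, true)) hz1 with rfl | rfl
    · exact hX_a Fr hne h1
    · have e3 : hX Fr (j, true) (nx j) (-1) (Fr.b (ng (j, true))) = _ := hX_na Fr hne h1
      rw [e3, map_neg, map_one, inv_neg, inv_one]
      rfl
  by_cases hz2 : z.1 = (nx j).1
  · have e : Cf j (wt z) = -(if z.2 then 1 else -1) := by
      rw [hCf, wt_apply, wt_apply, if_neg (fun h => hz1 h.symm), if_pos (by rw [hz2, hnx]), zero_sub]
    have hodd : ¬ Even (Cf j (wt z)) := by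
      rw [e]; split_ifs <;> decide
    refine ⟨-1, ?_, Or.inr rfl, fun h => absurd h hodd, fun h => absurd h h11⟩
    rcases eq_or_ng hz2 with rfl | rfl
    · rw [hX_b Fr hne h1, map_neg, map_one]
    · have e3 : hX Fr (j, true) (nx j) (-1) (Fr.b (ng (nx j))) = _ := hX_nb Fr hne h1
      rw [e3, inv_neg, inv_one]
      rfl
  · have e : Cf j (wt z) = 0 := by
      rw [hCf, wt_apply, wt_apply, if_neg (fun h => hz1 h.symm), if_neg (fun h => hz2 (by rw [hnx]; exact h.symm)),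
        sub_zero]
    refine ⟨1, by rw [hX_ne Fr hne hz1 hz2, one_smul], Or.inl rfl, fun _ => rfl, fun _ => by rw [e]; exact Even.zero⟩

/-- **`TWFaithful` for the Witt frames** -/
theorem twFaithful_C {p : ℕ} {W : Type*} [Group W] (cs : CoxeterSystem (CoxeterMatrix.B n) W) (hA : Amb Fr M.I)
    (h2 : (2 : F) ≠ 0) {nw : Fin n → K0} (R : RGD cs (isCartan n) p (WittModel.T M) nw (WittModel.X M)) :
    TWFaithful cs (WittModel.T M) nw R.nsys := by
  have h1 : (-1 : F) ≠ 0 := neg_ne_zero.2 one_ne_zero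
  have h11 : (-1 : F) ≠ 1 := by
    intro h
    apply h2
    have : (1 : F) + 1 = 0 := by nth_rewrite 1 [← h]; ring
    rw [← this]; norm_num
  refine H69.OQ.twFaithful_gen R (S := {j : Fin n | (j : ℕ) + 1 < n}) ?_
    (fun j => M.φ ⟨hX Fr (j, true) (nx j) (-1), hX_mem M _ _ _⟩) ?_ ?_ ?_
  · intro i hi k
    have hi' : ¬ (i : ℕ) + 1 < n := hi
    have hk := k.2
    rw [A_apply]
    split_ifs with c1 c2 c3
    · exact even_two
    · exact ⟨-1, rfl⟩
    · omega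
    · exact Even.zero
  · intro j hj
    exact Subgroup.mem_map_of_mem _ (Subgroup.mem_subgroupOf.2 ⟨hX_mem M _ _ _, mono_hX Fr (nx_ne hj) h1⟩)
  · intro j hj
    refine ⟨1, ?_⟩
    have h3 : hX Fr (j, true) (nx j) (-1) ^ 2 ^ 1 = 1 := hX_pow Fr (nx_ne hj) h1 hA (by norm_num)
    change M.φ _ ^ 2 ^ 1 = 1
    rw [← map_pow]
    have : (⟨hX Fr (j, true) (nx j) (-1), hX_mem M _ _ _⟩ : M.I) ^ 2 ^ 1 = 1 := Subtype.ext h3
    rw [this, map_one]
  · intro j hj i hi u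
    obtain ⟨a, b, hab, e⟩ := exists_of_rep cs hi u
    obtain ⟨l, hl, hl1, hle⟩ := hX_neg_one (Fr := Fr) h2 hj a
    obtain ⟨m, hm, hm1, hme⟩ := hX_neg_one (Fr := Fr) h2 hj b
    have hpair : pairing (TypeC.A n) j (rep cs (isCartan n) u (sr i)) = Cf j (wt a) + Cf j (wt b) := by
      rw [← Cf_ee, e, Cf_add]
    have hσ : H.σ m = m := by
      rcases hm1 with rfl | rfl
      · exact map_one _
      · rw [map_neg, map_one]
    have hlm : (Even (Cf j (wt a) + Cf j (wt b)) ↔ l * m = 1) := by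
      rw [Int.even_add, hle, hme]
      rcases hl1 with rfl | rfl <;> rcases hm1 with rfl | rfl
      · simp
      · simp [h11]
      · simp [h11]
      · simp [h11]
    have hc : ∀ s, hX Fr (j, true) (nx j) (-1) * Fr.X a b s * (hX Fr (j, true) (nx j) (-1))⁻¹ =
        Fr.X a b (l * m * s) := by
      intro s
      rw [conj_X Fr (hA.iso _ (hX_mem M _ _ _)) hab hab hl hm, hσ]
      congr 1
      have := Fr.η_ne b
      field_simp
    have hc' : ∀ s, M.φ ⟨hX Fr (j, true) (nx j) (-1), hX_mem M _ _ _⟩ * M.φ ⟨Fr.X a b s, M.hX _ _ _⟩ *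
        (M.φ ⟨hX Fr (j, true) (nx j) (-1), hX_mem M _ _ _⟩)⁻¹ = M.φ ⟨Fr.X a b (l * m * s), M.hX _ _ _⟩ := by
      intro s
      rw [← map_inv, ← map_mul, ← map_mul]
      congr 1
      exact Subtype.ext (hc s)
    have hrg : WittRoot.rg Fr (rep cs (isCartan n) u (sr i)) = XG Fr a b := by
      rw [rg_eq Fr (Or.inl hab) e, PG_ne Fr hab]
    rw [hpair, hlm]
    constructor
    · intro h3
      have h4 := h3 (M.φ ⟨Fr.X a b 1, M.hX _ _ _⟩) (WittModel.mem_X_of M _ (by rw [hrg]; exact ⟨1, rfl⟩))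
      have h5 := hc' 1
      rw [h4, mul_inv_cancel_right] at h5
      have h6 := model_X_inj M hab h5
      rw [mul_one] at h6
      exact h6.symm
    · intro h3 y hy
      obtain ⟨g, hg, hgx, rfl⟩ := (WittModel.mem_X M).1 hy
      rw [hrg] at hgx
      obtain ⟨s, rfl⟩ := hgx
      have h5 := hc' s
      have h6 : (⟨Fr.X a b (l * m * s), M.hX _ _ _⟩ : M.I) = ⟨Fr.X a b s, hg⟩ := by
        apply Subtype.ext
        change Fr.X a b (l * m * s) = Fr.X a b s
        rw [h3, one_mul]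
      rw [h6] at h5
      exact mul_inv_eq_iff_eq_mul.1 h5

/-- **`HasIn` for a Witt frame** -/
theorem hasIn_C {p : ℕ} (hA : Amb Fr M.I) [Finite V] [Finite F] [Fact p.Prime] [CharP F p] (h2 : (2 : F) ≠ 0)
    {p0 : Fr.Adm} (hp0 : p0.c ≠ 0) (hn : 0 < n)
    (hT : ∀ s ∈ Tor Fr M.I, ∀ t ∈ Tor Fr M.I, ∀ w ∈ Fr.V0, s (t w) = t (s w))
    (hN : NoFix (CoxeterMatrix.B n).toCoxeterSystem (isCartan n) (WittModel.T M) (WittModel.X M))
    {K : Type*} [Group K] [Finite K] (P : K → Fr.Adm) (hinj : Function.Injective P) (hP : ∀ k, (P k).c ≠ 0)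
    (hsurj : ∀ p : Fr.Adm, p.c ≠ 0 → ∃ k, P k = p)
    (hmul : ∀ (a : Fin n × Bool) (k k' : K), nZ Fr a (P (k * k')) * (nZ Fr a p0)⁻¹ =
      (nZ Fr a (P k) * (nZ Fr a p0)⁻¹) * (nZ Fr a (P k') * (nZ Fr a p0)⁻¹)) :
    HasIn p (CoxeterMatrix.B n) K0 := by
  have hAT := AmbT.of_amb hA p
  have R := rgdC_model M hAT hp0 (CoxeterMatrix.B n).toCoxeterSystem
  refine ⟨TypeC.A n, isCartan n, WittModel.T M, _, WittModel.X M,
    TypeC.finite_W (CoxeterMatrix.B n).toCoxeterSystem, R, ?_, ?_, hN, ?_, twFaithful_C M _ hA h2 R⟩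
  · exact H905.Md.gg_top (WittModel.G1_eq_top M hn _)
  · rintro _ ⟨s, hs, rfl⟩ _ ⟨t, ht, rfl⟩
    rw [← map_mul, ← map_mul]
    congr 1
    exact Subtype.ext (H716.RGDAb.tor_comm_of hA.V0 (Subgroup.mem_subgroupOf.1 hs) (Subgroup.mem_subgroupOf.1 ht)
      (hT _ (Subgroup.mem_subgroupOf.1 hs) _ (Subgroup.mem_subgroupOf.1 ht)))
  · intro i
    by_cases hi : (i : ℕ) + 1 < n
    · exact slNode_X M hA hi _
    · exact slNode_Z M _ hA hp0 hi _ R P hinj hP hsurj (hmul (i, true))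

end Cfsg.Agent.H69.OQ
end

-- part: H69/OQ/InRows
section
/-!
# S4884, own odd characteristic: `HasIn` for the symplectic, the even unitary and the odd orthogonal groups (helper69)

* `dZ` : `nZ a p * (nZ a p0)⁻¹`, `dZ_a`, `dZ_na`, `dZ_ne`, `dZ_V0`; `dZ_mul_of`;
* `hasIn_zero` : anisotropic part zero; `hasIn_line` : orthogonal, anisotropic part a line;
* **`hasIn_psp`**, **`hasIn_psu`** (even degree), **`hasIn_podd`**.
-/

set_option autoImplicit false
set_option linter.unusedSectionVars false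

namespace Cfsg.Agent.H69.OQ

open Cfsg.Agent.ChevalleyStructure.CoxeterGeom Cfsg.Agent.Tits.Roots Cfsg.Agent.Nodes.TypeC
open Cfsg.Agent.Nodes Cfsg.Agent.Nodes.Comb Cfsg.Agent.Nodes.Reps Cfsg.Agent.Nodes.WittRoot Cfsg.Agent.Nodes.BNOf
open Cfsg.Agent.Nodes.WittRGD Cfsg.Agent.Nodes.RGDLib Cfsg.Agent.H684.OQ Cfsg.Agent.Nodes.WittAll
open Cfsg.Agent.TitsThree Cfsg.Agent.TitsThree.Siegel Cfsg.Agent.TitsThree.WittFrame
  Cfsg.Agent.TitsThree.WittWeyl Cfsg.Agent.TitsThree.FrameCN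

section general

variable {F : Type*} [Field F] {V : Type*} [AddCommGroup V] [Module F V] {H : HForm F V} {n : ℕ}
  (Fr : Frame H (Fin n))

/-- the torus elements of the last node -/
def dZ (a : Fin n × Bool) (p0 p : Fr.Adm) : V ≃ₗ[F] V := nZ Fr a p * (nZ Fr a p0)⁻¹

theorem inv_apply_of {g : V ≃ₗ[F] V} {v w : V} {l : F} (hl : l ≠ 0) (h : g v = l • w) : g⁻¹ w = l⁻¹ • v := by
  have h1 : g (l⁻¹ • v) = w := by rw [map_smul, h, smul_smul, inv_mul_cancel₀ hl, one_smul]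
  rw [← h1, ← mul_apply', inv_mul_cancel]
  rfl

variable {Fr} {a : Fin n × Bool} {p0 p : Fr.Adm}

theorem dZ_a (hp0 : p0.c ≠ 0) (hp : p.c ≠ 0) : dZ Fr a p0 p (Fr.b a) = (p.c * p0.c⁻¹) • Fr.b a := by
  have hη := Fr.η_ne a
  rw [dZ, mul_apply', inv_apply_of (mul_ne_zero hη hp0) (nZ_apply_neg Fr a p0 hp0), map_smul,
    nZ_apply_neg Fr a p hp, smul_smul]
  congr 1
  field_simp

theorem dZ_na (hp0 : p0.c ≠ 0) (hp : p.c ≠ 0) :
    dZ Fr a p0 p (Fr.b (neg a)) = (H.σ p0.c * (H.σ p.c)⁻¹) • Fr.b (neg a) := by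
  have hη := Fr.η_ne a
  have hε := H.ε_ne
  have hσ : H.σ p.c ≠ 0 := by simpa using hp
  have hσ0 : H.σ p0.c ≠ 0 := by simpa using hp0
  have hne : H.ε * (Fr.η a)⁻¹ * (H.σ p0.c)⁻¹ ≠ 0 :=
    mul_ne_zero (mul_ne_zero hε (inv_ne_zero hη)) (inv_ne_zero hσ0)
  rw [dZ, mul_apply', inv_apply_of hne (nZ_apply_self Fr a p0 hp0), map_smul, nZ_apply_self Fr a p hp, smul_smul]
  congr 1
  field_simp

theorem dZ_ne {z : Fin n × Bool} (h : z.1 ≠ a.1) : dZ Fr a p0 p (Fr.b z) = Fr.b z := by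
  have h1 : nZ Fr a p0 (Fr.b z) = (1 : F) • Fr.b z := by rw [nZ_apply_of_ne Fr h, one_smul]
  rw [dZ, mul_apply', inv_apply_of one_ne_zero h1, inv_one, one_smul, nZ_apply_of_ne Fr h]

/-- the criterion for `dZ` to be multiplicative -/
theorem dZ_mul_of {G0 : Subgroup (V ≃ₗ[F] V)} (hA : Amb Fr G0) (a : Fin n × Bool) {p0 p p' p'' : Fr.Adm}
    (hp0 : p0.c ≠ 0) (hp : p.c ≠ 0) (hp' : p'.c ≠ 0) (hp'' : p''.c ≠ 0) (hc : p''.c * p0.c = p.c * p'.c)
    (hV : ∀ v ∈ Fr.V0, dZ Fr a p0 p'' v = dZ Fr a p0 p (dZ Fr a p0 p' v)) :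
    dZ Fr a p0 p'' = dZ Fr a p0 p * dZ Fr a p0 p' := by
  have hσ : H.σ p.c ≠ 0 := by simpa using hp
  have hσ' : H.σ p'.c ≠ 0 := by simpa using hp'
  have hσ'' : H.σ p''.c ≠ 0 := by simpa using hp''
  have hσ0 : H.σ p0.c ≠ 0 := by simpa using hp0
  refine ext_of hA (fun z => ?_) fun w hw => hV w hw
  rw [mul_apply']
  by_cases h1 : z.1 = a.1
  · rcases eq_or_ng h1 with rfl | rfl
    · rw [dZ_a hp0 hp'', dZ_a hp0 hp', map_smul, dZ_a hp0 hp, smul_smul]
      congr 1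
      field_simp
      linear_combination hc
    · have e1 : dZ Fr a p0 p'' (Fr.b (ng a)) = _ := dZ_na hp0 hp''
      have e2 : dZ Fr a p0 p' (Fr.b (ng a)) = _ := dZ_na hp0 hp'
      rw [e1, e2, map_smul, dZ_na hp0 hp, smul_smul]
      congr 1
      have hc' := congrArg H.σ hc
      rw [map_mul, map_mul] at hc'
      field_simp
      linear_combination -hc'
  · rw [dZ_ne h1, dZ_ne h1, dZ_ne h1]

variable {K0 : Type*} [Group K0] (M : Model Fr K0)

/-- **anisotropic part zero** -/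
theorem hasIn_zero {p : ℕ} (hA : Amb Fr M.I) [Finite V] [Finite F] [Fact p.Prime] [CharP F p] (h2 : (2 : F) ≠ 0)
    {p0 : Fr.Adm} (hp0 : p0.c ≠ 0) (hn : 0 < n) (hV0 : ∀ w ∈ Fr.V0, w = 0)
    (hok : ∀ c, H.ε * c + H.σ c = 0 → Fr.ok 0 c)
    (hN : NoFix (CoxeterMatrix.B n).toCoxeterSystem (isCartan n) (WittModel.T M) (WittModel.X M)) :
    HasIn p (CoxeterMatrix.B n) K0 := by
  have hw0 : ∀ q : Fr.Adm, q.w = 0 := fun q => hV0 _ (Fr.ok_mem q.ok)
  have hrel : ∀ q : Fr.Adm, H.σ q.c = -(H.ε * q.c) := by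
    intro q
    have h1 := q.herm
    rw [hw0 q, H.zero_left, neg_zero] at h1
    linear_combination h1
  let K : Subgroup Fˣ :=
    { carrier := {u | H.σ (u : F) = u}
      one_mem' := by simp
      mul_mem' := fun {a b} (ha : H.σ (a : F) = a) (hb : H.σ (b : F) = b) => by
        show H.σ ((a * b : Fˣ) : F) = _
        rw [Units.val_mul, map_mul, ha, hb]
      inv_mem' := fun {a} (ha : H.σ (a : F) = a) => by
        show H.σ ((a⁻¹ : Fˣ) : F) = _
        rw [Units.val_inv_eq_inv_val, map_inv₀, ha] }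
  have hokP : ∀ u : K, Fr.ok 0 (((u : Fˣ) : F) * p0.c) := by
    intro u
    have hu : H.σ ((u : Fˣ) : F) = ((u : Fˣ) : F) := u.2
    apply hok
    rw [map_mul, hu, hrel p0]
    ring
  have hfin : Finite K := inferInstance
  let P : K → Fr.Adm := fun u => ⟨0, ((u : Fˣ) : F) * p0.c, hokP u⟩
  have hPc : ∀ u : K, (P u).c = ((u : Fˣ) : F) * p0.c := fun _ => rfl
  have hP0 : ∀ u, (P u).c ≠ 0 := fun u => mul_ne_zero (Units.ne_zero _) hp0
  refine hasIn_C M hA h2 hp0 hn (fun s _ t _ w hw => by rw [hV0 w hw, map_zero, map_zero, map_zero]) hN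
    (K := K) P (fun u u' h => ?_) hP0 (fun q hq => ?_) (fun a k k' => ?_)
  · have h1 := congrArg Frame.Adm.c h
    exact Subtype.ext (Units.ext (mul_right_cancel₀ hp0 h1))
  · have hσ0 : H.σ p0.c ≠ 0 := by simpa using hp0
    have hu : H.σ (q.c * p0.c⁻¹) = q.c * p0.c⁻¹ := by
      have hε := H.ε_ne
      rw [map_mul, map_inv₀, hrel q, hrel p0]
      field_simp
    refine ⟨⟨Units.mk0 (q.c * p0.c⁻¹) (mul_ne_zero hq (inv_ne_zero hp0)), hu⟩, ?_⟩
    apply Frame.Adm.ext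
    · exact (hw0 q).symm
    · exact inv_mul_cancel_right₀ hp0 q.c
  · refine dZ_mul_of hA a hp0 (hP0 k) (hP0 k') (hP0 _) ?_ fun v hv => ?_
    · rw [hPc, hPc, hPc]
      change (((k : Fˣ) * (k' : Fˣ) : Fˣ) : F) * p0.c * p0.c = _
      rw [Units.val_mul]
      ring
    · rw [hV0 v hv, map_zero, map_zero, map_zero]

/-- **orthogonal, the anisotropic part is a line** -/
theorem hasIn_line {p : ℕ} (hA : Amb Fr M.I) [Finite V] [Finite F] [Fact p.Prime] [CharP F p] (h2 : (2 : F) ≠ 0)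
    {p0 : Fr.Adm} (hp0 : p0.c ≠ 0) (hn : 0 < n) (hσ : ∀ x, H.σ x = x) (hε : H.ε = 1)
    (hline : ∀ w ∈ Fr.V0, ∃ x : F, w = x • p0.w)
    (hN : NoFix (CoxeterMatrix.B n).toCoxeterSystem (isCartan n) (WittModel.T M) (WittModel.X M)) :
    HasIn p (CoxeterMatrix.B n) K0 := by
  have hAT := AmbT.of_amb hA p
  have hherm : ∀ q : Fr.Adm, 2 * q.c = -H.h q.w q.w := by
    intro q
    have h1 := q.herm
    rw [hε, hσ, one_mul] at h1
    linear_combination h1
  have hw0 : p0.w ≠ 0 := by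
    intro h
    have h1 := hherm p0
    rw [h, H.zero_left, neg_zero] at h1
    exact hp0 ((mul_eq_zero.1 h1).resolve_left h2)
  let P : Fˣ → Fr.Adm := fun u => Frame.Adm.smul (u : F) p0
  have hPc : ∀ u : Fˣ, (P u).c = (u : F) * (u : F) * p0.c := fun u => by
    change (u : F) * H.σ (u : F) * p0.c = _
    rw [hσ]
  have hP0 : ∀ u, (P u).c ≠ 0 := fun u => by
    rw [hPc]
    exact mul_ne_zero (mul_ne_zero (Units.ne_zero _) (Units.ne_zero _)) hp0
  have hV : ∀ (u : Fˣ) (a : Fin n × Bool), ∀ v ∈ Fr.V0, nZ Fr a (P u) v = nZ Fr a p0 v := by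
    intro u a v hv
    have hu := u.ne_zero
    rw [nZ_apply_V0 Fr a (P u) (hP0 u) hv, nZ_apply_V0 Fr a p0 hp0 hv, hPc]
    congr 1
    change (H.ε⁻¹ * ((u : F) * (u : F) * p0.c)⁻¹ * H.h v ((u : F) • p0.w)) • (u : F) • p0.w = _
    rw [H.smul_right, hσ, smul_smul]
    congr 1
    field_simp
  have hD : ∀ (u : Fˣ) (a : Fin n × Bool), ∀ v ∈ Fr.V0, dZ Fr a p0 (P u) v = v := by
    intro u a v hv
    -- `v = nZ a p0 v'` with `v' ∈ V0`
    obtain ⟨x, hx⟩ := hline v hv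
    have h3 : nZ Fr a p0 p0.w = -p0.w := by
      rw [nZ_apply_V0 Fr a p0 hp0 (Fr.ok_mem p0.ok), hε]
      have h4 : H.h p0.w p0.w = -(2 * p0.c) := by rw [hherm]; ring
      rw [h4]
      have h5 : (1 : F)⁻¹ * p0.c⁻¹ * -(2 * p0.c) = -2 := by field_simp
      rw [h5]
      module
    have h4 : (nZ Fr a p0)⁻¹ v = -v := by
      have h5 : nZ Fr a p0 (-v) = v := by rw [hx, map_neg, map_smul, h3]; simp
      nth_rewrite 1 [← h5]
      rw [← mul_apply', inv_mul_cancel]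
      rfl
    rw [dZ, mul_apply', h4, hV u a _ (Fr.V0.neg_mem hv), hx, map_neg, map_smul, h3]
    simp
  refine hasIn_C M hA h2 hp0 hn (fun s hs t ht => H716.RGDAb.comm_V0_of_line hAT ⟨p0.w, hline⟩ hs ht) hN
    (K := Fˣ) P (fun u u' h => ?_) hP0 (fun q hq => ?_) (fun a k k' => ?_)
  · have h1 := congrArg Frame.Adm.w h
    exact Units.ext (smul_left_injective F hw0 h1)
  · obtain ⟨x, hx⟩ := hline q.w (Fr.ok_mem q.ok)
    have hqc : q.c = x * x * p0.c := by
      have h1 := hherm q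
      rw [hx, H.smul_left, H.smul_right, hσ] at h1
      have h3 := hherm p0
      apply mul_left_cancel₀ h2
      rw [h1]
      linear_combination -x * x * h3
    have hx0 : x ≠ 0 := by
      rintro rfl
      apply hq
      rw [hqc]
      ring
    refine ⟨Units.mk0 x hx0, ?_⟩
    apply Frame.Adm.ext
    · exact hx.symm
    · change x * H.σ x * p0.c = q.c
      rw [hσ, hqc]
  · refine dZ_mul_of hA a hp0 (hP0 k) (hP0 k') (hP0 _) ?_ fun v hv => ?_
    · rw [hPc, hPc, hPc, Units.val_mul]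
      ring
    · rw [hD _ a v hv, hD _ a v hv, hD _ a v hv]

end general

section rows

open Cfsg
open Cfsg.Agent.Nodes.WittU Cfsg.Agent.Nodes.WittInst Cfsg.Agent.TitsThree.SiegelGen Cfsg.Agent.TitsThree.WBridge

theorem two_ne_of_odd {F : Type*} [Field F] [Fintype F] (h : Odd (Fintype.card F)) : (2 : F) ≠ 0 := by
  intro h0
  have h3 : ringChar F = 2 := by
    have h5 : ringChar F ∣ 2 := (ringChar.spec F 2).1 (by exact_mod_cast h0)
    rcases (Nat.dvd_prime Nat.prime_two).1 h5 with h6 | h6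
    · exact absurd h6 (CharP.ringChar_ne_one)
    · exact h6
  have h5 := FiniteField.even_card_of_char_two h3
  obtain ⟨k, hk⟩ := h
  omega

/-- **`PSU_{2m}(q)`**, `m ≥ 2`, `q` odd -/
theorem hasIn_psu {F : Type*} [Field F] [Fintype F] {q m : ℕ} (hF : Fintype.card F = q ^ 2) (hq : Odd q) (hm : 2 ≤ m)
    {p : ℕ} [Fact p.Prime] [CharP F p] : HasIn p (CoxeterMatrix.B m) (PSU (2 * m) F q) := by
  have h2 : (2 : F) ≠ 0 := two_ne_of_odd (by rw [hF]; exact hq.pow)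
  obtain ⟨W, -⟩ := exists_wframe hF (N := 2 * m) (m := m) (Or.inl rfl)
  obtain ⟨p0, hp0, -⟩ := exists_adm hF W
  have hdim := H716.RGDAb.finrank_V0 (Fr := toFrame W)
  rw [Module.finrank_fintype_fun_eq_card, Fintype.card_fin] at hdim
  have hV0 : (toFrame W).V0 = ⊥ := Submodule.finrank_eq_zero.1 (by omega)
  have hV0' : ∀ w ∈ (toFrame W).V0, w = 0 := fun w hw => by
    rw [hV0] at hw
    exact (Submodule.mem_bot F).1 hw
  refine hasIn_zero (KInstU.model hF (by omega) W) (amb_U hF W) h2 hp0 (by omega) hV0' ?_ ?_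
  · intro c hc
    refine ⟨(toFrame W).V0.zero_mem, ?_⟩
    change c + c ^ q = -hermForm (2 * m) F q 0 0
    have h1 : c + c ^ q = 0 := by
      have h3 : (1 : F) * c + c ^ q = 0 := hc
      rw [one_mul] at h3
      exact h3
    rw [h1]
    have h3 : (TitsThree.KSideU.HU hF (2 * m)).h 0 0 = 0 := (TitsThree.KSideU.HU hF (2 * m)).zero_left 0
    have h4 : hermForm (2 * m) F q 0 0 = 0 := h3
    rw [h4, neg_zero]
  · obtain ⟨t, k, ht, htq⟩ := exists_two_elt hF hq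
    exact nofix_tt (KInstU.model hF (by omega) W) _ (amb_U hF W) hm ht htq

section Orthogonal

open QuadraticMap
open Cfsg.Agent.LieClassical Cfsg.Agent.LieClassical.OrthCore Cfsg.Agent.LieClassical.OrthTrans
open Cfsg.Agent.LieClassical.OrthSimple Cfsg.Agent.LieClassical.OrthFinite
open Cfsg.Agent.LieClassical.OrthForms
open Cfsg.Agent.TitsThree.KSideO Cfsg.Agent.TitsThree.StdData

variable {F : Type*} [Field F] {m : ℕ}

/-- **`PΩ_{2m+1}(F)`**, `m ≥ 3` -/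
theorem hasIn_podd [Finite F] (h2 : (2 : F) ≠ 0) (hm : 3 ≤ m) {p : ℕ} [Fact p.Prime] [CharP F p] :
    HasIn p (CoxeterMatrix.B m) (Cfsg.POmega F (Cfsg.quadFormOdd m F)) := by
  rw [← coe_oddForm]
  have hG : Cfsg.Agent.LieClassical.OrthTrans.Good (oddForm m F) := by
    apply good_of_finite (nondeg_oddForm m F h2)
    rw [Module.finrank_fintype_fun_eq_card, Fintype.card_sum, Fintype.card_sum, Fintype.card_fin,
      Fintype.card_unit]
    omega
  have hp : ((embOdd m F).ngt ⟨1, -1 ^ 2, rfl⟩).c ≠ 0 := by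
    change (1 : F)⁻¹ * (-1 ^ 2) ≠ 0
    simp
  have hA := amb_O_of_two (wodd m F) h2
  have hdim := H716.RGDAb.finrank_V0 (Fr := toFrame (wodd m F))
  rw [Module.finrank_fintype_fun_eq_card, Fintype.card_sum, Fintype.card_sum, Fintype.card_fin,
      Fintype.card_unit] at hdim
  have h1 : Module.finrank F ↥(toFrame (wodd m F)).V0 ≤ 1 := by omega
  obtain ⟨v, hv⟩ := finrank_le_one_iff.1 h1
  refine hasIn_line (model (wodd m F) hG ⟨_, hp⟩) hA h2 hp (by omega) (fun _ => rfl) rfl ?_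
    (nofix_orth _ _ hA hm h2 (fun _ => rfl) rfl)
  set p0 := (embOdd m F).ngt ⟨1, -1 ^ 2, rfl⟩ with hp0
  have hw0 : p0.w ≠ 0 := by
    intro h
    have h3 := p0.herm
    rw [h, HForm.zero_left, neg_zero] at h3
    have h4 : (2 : F) * p0.c = 0 := by
      rw [two_mul]
      nth_rewrite 1 [← one_mul p0.c]
      exact h3
    exact hp ((mul_eq_zero.1 h4).resolve_left h2)
  obtain ⟨c, hc⟩ := hv ⟨p0.w, (toFrame (wodd m F)).ok_mem p0.ok⟩
  have hc' : c • v.1 = p0.w := congrArg Subtype.val hc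
  have hc0 : c ≠ 0 := by
    rintro rfl
    rw [zero_smul] at hc'
    exact hw0 hc'.symm
  intro w hw
  obtain ⟨d, hd⟩ := hv ⟨w, hw⟩
  refine ⟨d * c⁻¹, ?_⟩
  rw [← hc', smul_smul, inv_mul_cancel_right₀ hc0]
  exact (congrArg Subtype.val hd).symm

end Orthogonal

end rows

end Cfsg.Agent.H69.OQ
end

private theorem dce_2180bf7d0bc4 : _root_.True := by
  try have : _root_.True := by simp only [_root_.Cfsg.Agent.H69.OQ.al.eq_1]
  try have : _root_.True := by simp only [_root_.Cfsg.Agent.H69.OQ.be.eq_1]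
  try have : _root_.True := by simp only [_root_.Cfsg.Agent.H69.OQ.dZ.eq_1]
  exact _root_.True.intro
end

-- part: H69/OQ/InPlus
section
prune_inst 0x110001404c00000000180016000004402c00000200430000006009440148224025000601145001120082084000080000000800000020000004000400000500000080100290080000020006000004000000000000000000000000000000000000000000000
set_option linter.all false
open scoped Cfsg.Agent.FastGrp

/-!
# S4884, own odd characteristic: `HasIn` for the orthogonal groups of plus type (helper69)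
-/

set_option autoImplicit false
set_option linter.unusedSectionVars false

namespace Cfsg.Agent.H69.OQ

open Cfsg QuadraticMap
open Cfsg.Agent.ChevalleyStructure.CoxeterGeom Cfsg.Agent.Tits.Roots
open Cfsg.Agent.Nodes Cfsg.Agent.Nodes.Comb Cfsg.Agent.Nodes.Reps Cfsg.Agent.Nodes.BNOf
open Cfsg.Agent.Nodes.WittRGD Cfsg.Agent.Nodes.RGDLib Cfsg.Agent.H684.OQ
open Cfsg.Agent.TitsThree Cfsg.Agent.TitsThree.Siegel Cfsg.Agent.TitsThree.WittFrame
  Cfsg.Agent.TitsThree.WittWeyl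
open Cfsg.Agent.Nodes.WittRoot (Amb Mono XG)
open Cfsg.Agent.Nodes.TypeC (wt wt_apply)
open Cfsg.Agent.Nodes.TypeD

section Map

open CoxeterSystem

variable {I W Y Y' : Type*} [Fintype I] [DecidableEq I] [Group W] [Group Y] [Group Y'] {M : CoxeterMatrix I}
  {cs : CoxeterSystem M W} {A : I → I → ℤ} {h : IsCartan M A} {T : Subgroup Y} {X : (I → ℤ) → Subgroup Y}

/-- a map with central kernel is injective on the root groups -/
theorem NoFix.inj (hN : NoFix cs h T X) (f : Y →* Y') (hker : f.ker ≤ Subgroup.center Y) {x : I → ℤ}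
    (hx : IsRoot cs h x) {z : Y} (hz : z ∈ X x) (h1 : f z = 1) : z = 1 :=
  hN x hx z hz fun t _ _ => (Subgroup.mem_center_iff.1 (hker (MonoidHom.mem_ker.2 h1)) t)

end Map

variable {F : Type*} [Field F] {V : Type*} [AddCommGroup V] [Module F V] {H : HForm F V} {n : ℕ}
  {Fr : Frame H (Fin (n + 2))} {G0 : Subgroup (V ≃ₗ[F] V)}

theorem hX_memD (hA : Amb Fr G0) (a b : Fin (n + 2) × Bool) (t : F) : hX Fr a b t ∈ G0 :=
  mul_mem (mul_mem (mul_mem (hA.X_mem _ _ _) (hA.X_mem _ _ _)) (hA.X_mem _ _ _))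
    (mul_mem (mul_mem (hA.X_mem _ _ _) (hA.X_mem _ _ _)) (hA.X_mem _ _ _))

theorem X_injD {a b : Fin (n + 2) × Bool} (hab : a.1 ≠ b.1) {s s' : F} (h : Fr.X a b s = Fr.X a b s') : s = s' := by
  have h5 := congrArg (fun g : V ≃ₗ[F] V => g (Fr.b (neg b))) h
  simp only [X_apply_neg Fr hab] at h5
  have h6 := add_left_cancel h5
  by_contra hne
  have h8 : (s - s') • Fr.b a = 0 := by rw [sub_smul, h6, sub_self]
  exact b_ne_zero a ((smul_eq_zero.1 h8).resolve_left (sub_ne_zero.2 hne))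

variable {K0 : Type*} [Group K0] (hA : Amb Fr G0) (φ : G0 →* K0)
  (hinj : ∀ a b : Fin (n + 2) × Bool, a.1 ≠ b.1 → ∀ s s' : F,
    φ ⟨Fr.X a b s, hA.X_mem _ _ _⟩ = φ ⟨Fr.X a b s', hA.X_mem _ _ _⟩ → s = s')

/-- the root groups of the quotient -/
def XQ (Fr : Frame H (Fin (n + 2))) (φ : G0 →* K0) (x : Fin (n + 2) → ℤ) : Subgroup K0 :=
  ((WittRGDD.rg Fr x).subgroupOf G0).map φ

theorem mem_XQ {x : Fin (n + 2) → ℤ} {a b : Fin (n + 2) × Bool} (hab : a.1 ≠ b.1) (e : ee x = wt a + wt b) {k : K0} :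
    k ∈ XQ Fr φ x ↔ ∃ s, k = φ ⟨Fr.X a b s, hA.X_mem _ _ _⟩ := by
  unfold XQ
  rw [WittRGDD.rg_eq Fr hab e]
  constructor
  · rintro ⟨⟨g, hg⟩, hgx, rfl⟩
    obtain ⟨s, hs⟩ := Subgroup.mem_subgroupOf.1 hgx
    refine ⟨s, ?_⟩
    congr 1
    exact Subtype.ext hs
  · rintro ⟨s, rfl⟩
    exact Subgroup.mem_map_of_mem _ (Subgroup.mem_subgroupOf.2 ⟨s, rfl⟩)

include hinj in
/-- the nodes of type `D` -/
theorem slNode_D [Finite F] (i : Fin (n + 2)) :
    SLNode (((Tor Fr G0).subgroupOf G0).map φ) (fun i => φ ⟨WittRGDD.nn Fr i, WittRGDD.nn_mem hA i⟩) (XQ Fr φ) i := by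
  have hne : ((i, true) : Fin (n + 2) × Bool).1 ≠ (nx i).1 := ok_nx i
  have hmX : ∀ {k : K0}, k ∈ XQ Fr φ (sr i) ↔ ∃ s, k = φ ⟨Fr.X (i, true) (nx i) s, hA.X_mem _ _ _⟩ :=
    mem_XQ hA φ hne (ee_sr i)
  have hX0 : φ ⟨Fr.X (i, true) (nx i) 0, hA.X_mem _ _ _⟩ = 1 := by
    have : (⟨Fr.X (i, true) (nx i) 0, hA.X_mem _ _ _⟩ : G0) = 1 := Subtype.ext (Fr.X_zero _ _)
    rw [this, map_one]
  let f : Fˣ →* K0 := MonoidHom.mk' (fun s => φ ⟨hX Fr (i, true) (nx i) (s : F), hX_memD hA _ _ _⟩) fun s t => by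
    rw [← map_mul]
    (with_reducible congr 1)
    apply Subtype.ext
    change hX Fr (i, true) (nx i) ((s * t : Fˣ) : F) = _
    rw [Units.val_mul]
    exact hX_mul hA hne s.ne_zero t.ne_zero
  refine slNode_of (K := Fˣ) f (fun k => ?_) (fun s => φ ⟨Fr.X (i, true) (nx i) ((s : F)⁻¹), hA.X_mem _ _ _⟩)
    (fun k => hmX.2 ⟨_, rfl⟩) (fun k h => ?_) (fun s t h => ?_) (fun x hx hx1 => ?_) (fun s => ?_)
  · exact Subgroup.mem_map_of_mem _ (Subgroup.mem_subgroupOf.2 ⟨hX_memD hA _ _ _, mono_hX Fr hne k.ne_zero⟩)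
  · rw [← hX0] at h
    exact inv_ne_zero k.ne_zero (hinj _ _ hne _ _ h)
  · exact Units.ext (inv_injective (hinj _ _ hne _ _ h))
  · obtain ⟨s, rfl⟩ := hmX.1 hx
    have hs : s ≠ 0 := by
      rintro rfl
      exact hx1 hX0
    refine ⟨Units.mk0 s⁻¹ (inv_ne_zero hs), ?_⟩
    simp only [Units.val_mk0, inv_inv]
  · refine ⟨_, hmX.2 ⟨-(s : F), rfl⟩, _, hmX.2 ⟨-(s : F), rfl⟩, ?_⟩
    change φ _ * φ _ * (φ _)⁻¹ = φ _ * φ _ * φ _ * φ _
    rw [← map_inv, ← map_mul, ← map_mul, ← map_mul, ← map_mul, ← map_mul]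
    (with_reducible congr 1)
    apply Subtype.ext
    exact nX_conj_eq hA hne s.ne_zero

/-- the scalar of `h_j(-1)` on the vector `b z` -/
theorem hX_neg_oneD (h2 : (2 : F) ≠ 0) (j : Fin (n + 2)) (z : Fin (n + 2) × Bool) :
    ∃ l : F, hX Fr (j, true) (nx j) (-1) (Fr.b z) = l • Fr.b z ∧ (l = 1 ∨ l = -1) ∧ (Even (Cf j (wt z)) ↔ l = 1) := by
  have hne : ((j, true) : Fin (n + 2) × Bool).1 ≠ (nx j).1 := ok_nx j
  have h1 : (-1 : F) ≠ 0 := neg_ne_zero.2 one_ne_zero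
  have h11 : (-1 : F) ≠ 1 := by
    intro h
    apply h2
    have : (1 : F) + 1 = 0 := by nth_rewrite 1 [← h]; ring
    rw [← this]; norm_num
  have hCf : (Even (Cf j (wt z)) ↔ Even (wt z j + wt z (nx j).1)) := by
    unfold Cf nx
    split_ifs with hj
    · rw [Int.even_add, Int.even_sub]
    · rfl
  rw [hCf]
  by_cases hz1 : z.1 = j
  · have hz2 : ¬ (nx j).1 = z.1 := by rw [hz1]; exact hne.symm
    have e : wt z j + wt z (nx j).1 = if z.2 then 1 else -1 := by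
      rw [wt_apply, wt_apply, if_pos hz1.symm, if_neg hz2, add_zero]
    have hodd : ¬ Even (wt z j + wt z (nx j).1) := by
      rw [e]; split_ifs <;> decide
    refine ⟨-1, ?_, Or.inr rfl, fun h => absurd h hodd, fun h => absurd h h11⟩
    rcases WittRGD.eq_or_ng (a := z) (b := (j, true)) hz1 with rfl | rfl
    · exact hX_a Fr hne h1
    · have e3 : hX Fr (j, true) (nx j) (-1) (Fr.b (TypeC.ng (j, true))) = _ := hX_na Fr hne h1
      rw [e3, map_neg, map_one, inv_neg, inv_one]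
      rfl
  by_cases hz2 : z.1 = (nx j).1
  · have e : wt z j + wt z (nx j).1 = if z.2 then 1 else -1 := by
      rw [wt_apply, wt_apply, if_neg (fun h => hz1 h.symm), if_pos hz2.symm, zero_add]
    have hodd : ¬ Even (wt z j + wt z (nx j).1) := by
      rw [e]; split_ifs <;> decide
    refine ⟨-1, ?_, Or.inr rfl, fun h => absurd h hodd, fun h => absurd h h11⟩
    rcases WittRGD.eq_or_ng hz2 with rfl | rfl
    · rw [hX_b Fr hne h1, map_neg, map_one]
    · have e3 : hX Fr (j, true) (nx j) (-1) (Fr.b (TypeC.ng (nx j))) = _ := hX_nb Fr hne h1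
      rw [e3, inv_neg, inv_one]
      rfl
  · have e : wt z j + wt z (nx j).1 = 0 := by
      rw [wt_apply, wt_apply, if_neg (fun h => hz1 h.symm), if_neg (fun h => hz2 h.symm), add_zero]
    refine ⟨1, by rw [hX_ne Fr hne hz1 hz2, one_smul], Or.inl rfl, fun _ => rfl, fun _ => by rw [e]; exact Even.zero⟩

include hinj in
/-- `TWFaithful` for the type `D` -/
theorem twFaithful_D {p : ℕ} {W : Type*} [Group W] (cs : CoxeterSystem (M n) W) (h2 : (2 : F) ≠ 0)
    {nw : Fin (n + 2) → K0} (R : RGD cs (isCartan n) p (((Tor Fr G0).subgroupOf G0).map φ) nw (XQ Fr φ)) :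
    TWFaithful cs (((Tor Fr G0).subgroupOf G0).map φ) nw R.nsys := by
  have h1 : (-1 : F) ≠ 0 := neg_ne_zero.2 one_ne_zero
  have h11 : (-1 : F) ≠ 1 := by
    intro h
    apply h2
    have : (1 : F) + 1 = 0 := by nth_rewrite 1 [← h]; ring
    rw [← this]; norm_num
  refine H69.OQ.twFaithful_gen R (S := Set.univ) ?_
    (fun j => φ ⟨hX Fr (j, true) (nx j) (-1), hX_memD hA _ _ _⟩) ?_ ?_ ?_
  · intro i hi
    exact absurd (Set.mem_univ i) hi
  · intro j _
    exact Subgroup.mem_map_of_mem _ (Subgroup.mem_subgroupOf.2 ⟨hX_memD hA _ _ _, mono_hX Fr (ok_nx j) h1⟩)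
  · intro j _
    refine ⟨1, ?_⟩
    have h3 : hX Fr (j, true) (nx j) (-1) ^ 2 ^ 1 = 1 := hX_pow Fr (ok_nx j) h1 hA (by norm_num)
    change φ _ ^ 2 ^ 1 = 1
    rw [← map_pow]
    have : (⟨hX Fr (j, true) (nx j) (-1), hX_memD hA _ _ _⟩ : G0) ^ 2 ^ 1 = 1 := Subtype.ext h3
    rw [this, map_one]
  · intro j _ i _ u
    obtain ⟨a, b, hab, e⟩ := exists_of_isRoot cs ((isRoot_sr cs (isCartan n) i).act u)
    have hab' : a.1 ≠ b.1 := hab
    obtain ⟨l, hl, hl1, hle⟩ := hX_neg_oneD (Fr := Fr) h2 j a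
    obtain ⟨m, hm, hm1, hme⟩ := hX_neg_oneD (Fr := Fr) h2 j b
    have hpair : pairing (TypeD.A n) j (rep cs (isCartan n) u (sr i)) = Cf j (wt a) + Cf j (wt b) := by
      rw [← Cf_ee, e, Cf_add]
    have hσ : H.σ m = m := by
      rcases hm1 with rfl | rfl
      · exact map_one _
      · rw [map_neg, map_one]
    have hlm : (Even (Cf j (wt a) + Cf j (wt b)) ↔ l * m = 1) := by
      rw [Int.even_add, hle, hme]
      rcases hl1 with rfl | rfl <;> rcases hm1 with rfl | rfl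
      · simp
      · simp [h11]
      · simp [h11]
      · simp [h11]
    have hc : ∀ s, hX Fr (j, true) (nx j) (-1) * Fr.X a b s * (hX Fr (j, true) (nx j) (-1))⁻¹ =
        Fr.X a b (l * m * s) := by
      intro s
      rw [conj_X Fr (hA.iso _ (hX_memD hA _ _ _)) hab' hab' hl hm, hσ]
      congr 1
      have := Fr.η_ne b
      field_simp
    have hc' : ∀ s, φ ⟨hX Fr (j, true) (nx j) (-1), hX_memD hA _ _ _⟩ * φ ⟨Fr.X a b s, hA.X_mem _ _ _⟩ *
        (φ ⟨hX Fr (j, true) (nx j) (-1), hX_memD hA _ _ _⟩)⁻¹ = φ ⟨Fr.X a b (l * m * s), hA.X_mem _ _ _⟩ := by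
      intro s
      rw [← map_inv, ← map_mul, ← map_mul]
      congr 1
      exact Subtype.ext (hc s)
    have hrg : ∀ {k : K0}, k ∈ XQ Fr φ (rep cs (isCartan n) u (sr i)) ↔
        ∃ s, k = φ ⟨Fr.X a b s, hA.X_mem _ _ _⟩ := mem_XQ hA φ hab' e
    rw [hpair, hlm]
    constructor
    · intro h3
      have h4 := h3 (φ ⟨Fr.X a b 1, hA.X_mem _ _ _⟩) (hrg.2 ⟨1, rfl⟩)
      have h5 := hc' 1
      rw [h4, mul_inv_cancel_right] at h5
      have h6 := hinj _ _ hab' _ _ h5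
      rw [mul_one] at h6
      exact h6.symm
    · intro h3 y hy
      obtain ⟨s, rfl⟩ := hrg.1 hy
      have h5 := hc' s
      have h6 : (⟨Fr.X a b (l * m * s), hA.X_mem _ _ _⟩ : G0) = ⟨Fr.X a b s, hA.X_mem _ _ _⟩ := by
        apply Subtype.ext
        change Fr.X a b (l * m * s) = Fr.X a b s
        rw [h3, one_mul]
      rw [h6] at h5
      exact mul_inv_eq_iff_eq_mul.1 h5

section rows

open Cfsg.Agent.Nodes.WittU Cfsg.Agent.Nodes.WittInst Cfsg.Agent.TitsThree.SiegelGen Cfsg.Agent.TitsThree.WBridge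
open Cfsg.Agent.LieClassical Cfsg.Agent.LieClassical.OrthCore Cfsg.Agent.LieClassical.OrthTrans
open Cfsg.Agent.LieClassical.OrthSimple Cfsg.Agent.LieClassical.OrthFinite
open Cfsg.Agent.LieClassical.OrthForms
open Cfsg.Agent.TitsThree.KSideO Cfsg.Agent.TitsThree.StdData Cfsg.Agent.Nodes.WittAll

/-- **`PΩ⁺_{2(n+3)}(F)`** -/
theorem hasIn_pplus {F : Type*} [Field F] [Finite F] (n : ℕ) (h2 : (2 : F) ≠ 0) {p : ℕ} [Fact p.Prime] [CharP F p] :
    HasIn p (Nodes.TypeD.M (n + 1)) (Cfsg.POmega F (Cfsg.quadFormPlus (n + 3) F)) := by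
  rw [← coe_plusForm]
  have hG : _root_.Cfsg.Agent.LieClassical.OrthTrans.Good (plusForm (n + 3) F) := by
    apply good_of_finite (nondeg_plusForm (n + 3) F)
    rw [Module.finrank_fintype_fun_eq_card, Fintype.card_sum, Fintype.card_fin]
    omega
  have hA := amb_plus (F := F) (n + 3)
  have hfin : Finite ((Fin (n + 3) ⊕ Fin (n + 3) → F) ≃ₗ[F] (Fin (n + 3) ⊕ Fin (n + 3) → F)) :=
    Finite.of_injective (fun g : (Fin (n + 3) ⊕ Fin (n + 3) → F) ≃ₗ[F] (Fin (n + 3) ⊕ Fin (n + 3) → F) =>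
      (g : (Fin (n + 3) ⊕ Fin (n + 3) → F) → (Fin (n + 3) ⊕ Fin (n + 3) → F))) DFunLike.coe_injective
  have R := rgdD_model (wplus (n + 3) F) hG hA (adm_plus _) (p := p) (Nodes.TypeD.M (n + 1)).toCoxeterSystem
  have hN0 := nofix_D (Nodes.TypeD.M (n + 1)).toCoxeterSystem hA (by omega) h2
  have hinj : ∀ a b : Fin (n + 3) × Bool, a.1 ≠ b.1 → ∀ s s' : F,
      toPOmega hG ⟨(toFrame (wplus (n + 3) F)).X a b s, hA.X_mem _ _ _⟩ =
        toPOmega hG ⟨(toFrame (wplus (n + 3) F)).X a b s', hA.X_mem _ _ _⟩ → s = s' := by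
    intro a b hab s s' h
    obtain ⟨x, hx, ex⟩ := rt_of_ok (cs := (Nodes.TypeD.M (n + 1)).toCoxeterSystem) (a := a) (b := b) hab
    have h3 : toPOmega hG (⟨(toFrame (wplus (n + 3) F)).X a b s, hA.X_mem _ _ _⟩ *
        (⟨(toFrame (wplus (n + 3) F)).X a b s', hA.X_mem _ _ _⟩)⁻¹) = 1 := by
      ((conv => enter [@2]; rw [map_mul]); (conv => enter [@2, @6]; rw [map_inv]); (conv => enter [@2, @5]; rw [h]); (conv => enter [@2]; rw [mul_inv_cancel]))
    have hmem : ∀ s, (⟨(toFrame (wplus (n + 3) F)).X a b s, hA.X_mem _ _ _⟩ : E (plusForm (n + 3) F)) ∈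
        (WittRGDD.rg (toFrame (wplus (n + 3) F)) x).subgroupOf (E (plusForm (n + 3) F)) := by
      intro s
      rw [WittRGDD.rg_eq _ hab ex]
      exact Subgroup.mem_subgroupOf.2 ⟨s, rfl⟩
    have h4 := NoFix.inj hN0 (toPOmega hG) (ker_toPOmega hG) hx (mul_mem (hmem s) (inv_mem (hmem s'))) h3
    have h5 : (toFrame (wplus (n + 3) F)).X a b s = (toFrame (wplus (n + 3) F)).X a b s' :=
      congrArg Subtype.val (mul_inv_eq_one.1 h4)
    exact X_injD hab h5
  refine ⟨Nodes.TypeD.A (n + 1), Nodes.TypeD.isCartan (n + 1), _, _, _,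
    Nodes.TypeD.finite_W (Nodes.TypeD.M (n + 1)).toCoxeterSystem, R, ?_, ?_, ?_, ?_, ?_⟩
  · exact H905.Md.gg_top (G1D_eq_top (wplus (n + 3) F) (toPOmega hG) (toPOmega_surjective hG) (adm_plus _) _)
  · rintro _ ⟨s, hs, rfl⟩ _ ⟨t, ht, rfl⟩
    ((conv => enter [@2]; rw [← map_mul]); (conv => enter [@3]; rw [← map_mul]))
    congr 1
    refine Subtype.ext (H716.RGDAb.tor_comm_of hA.V0 (Subgroup.mem_subgroupOf.1 hs)
      (Subgroup.mem_subgroupOf.1 ht) fun w hw => ?_)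
    have hw0 : w = 0 := (Submodule.mem_bot F).1 hw
    rw [hw0, map_zero, map_zero, map_zero]
  · exact hN0.map (fun x hx t ht =>
      (rgd_restrict (rgdD hA (adm_plus _) (p := p) (Nodes.TypeD.M (n + 1)).toCoxeterSystem) (E (plusForm (n + 3) F))
        (fun x _ => rgD_le (wplus (n + 3) F) hA x) (fun i => WittRGDD.nn_mem hA i)).tor x hx t ht)
      (toPOmega hG) (ker_toPOmega hG)
  · exact fun i => slNode_D hA (toPOmega hG) hinj i
  · exact twFaithful_D hA (toPOmega hG) hinj _ h2 R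

end rows

end Cfsg.Agent.H69.OQ
end

-- part: H310/OQ/TwE6
section
set_option linter.all false
open scoped Cfsg.Agent.FastGrp

/-!
# S4884, own odd characteristic: the input for `²E₆(q)` (helper310)
-/

set_option autoImplicit false
set_option linter.unusedSectionVars false

namespace Cfsg.Agent.H310.OQ.TwE6

open CoxeterSystem Cfsg.Agent.ChevalleyStructure.CoxeterGeom Cfsg.Agent.Tits.Roots Cfsg.Agent.Nodes.Reps
  Cfsg.Agent.Nodes.BNOf Cfsg.Agent.Nodes.Bruhat Cfsg.Agent.H684.OQ Cfsg.Agent.H310.OQ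
open Cfsg.Lie Cfsg.Agent.ChevalleyStructure Cfsg.Agent.ChevalleyStructure.Elts
  Cfsg.Agent.Nodes.RGDChev Cfsg.Agent.Nodes.RGDFold Cfsg.Agent.Nodes.RGDTwE6
open Cfsg.Agent.ChevalleyStructure.TwE6Basic (posE negE sg fix n exists_frob twisted_le_fix twisted_le_iff x)
open Cfsg.Agent.ChevalleyStructure.TwE6BN (rs rs_le x_mem_rs rs_single PairOK SingleOK)

universe u

variable {K : Type u} [Field K] {q : ℕ} {φ : K →+* K}

theorem node_single [Fintype K] (hφ : ∀ x, φ x = x ^ q) (hqq : ∀ t : K, (t ^ q) ^ q = t) {i : Fin 4} {j₀ : Fin 6}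
    (hJ : J i = [j₀]) (C : SingleOK.{u} i (chevE6.simple j₀)) : NodeOK hp K J (sg φ) (twistedE6 K q) i := by
  have hr := NPerm.simple_lt hp.inList (lt_rank hp j₀)
  let F₀ : Subfield K := RingHom.eqLocusField φ (RingHom.id K)
  have hF : ∀ t : F₀, φ t.1 = t.1 := fun t => t.2
  obtain ⟨Φ, hB, hu, hl⟩ := exists_blk_single hp j₀ (k := F₀) F₀.subtype
  have hle := twisted_le_fix φ hφ hqq
  refine ⟨F₀, inferInstance, inferInstance, Φ, ?_, fun t => ?_, fun t => ?_, fun g => ?_, fun t ht => ?_⟩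
  · rw [hJ]; exact hB
  · rw [hu]
    exact C.pos_mem_G (by rw [← hφ]; exact hF t)
  · rw [hl]
    exact TwE6Basic.single_mem (by rw [← hφ]; exact hF t) C.words.2
  · rw [R_pos]
    constructor
    · rintro ⟨h1, h2⟩
      rw [C.pos] at h1
      obtain ⟨t, rfl⟩ := rs_single h1
      exact ⟨⟨t, C.fix_pos h2⟩, by rw [hu]; rfl⟩
    · rintro ⟨t, rfl⟩
      rw [hu]
      exact ⟨x_mem_rs (by rw [C.pos]; simp) _, hle (C.pos_mem_G (by rw [← hφ]; exact hF t))⟩
  · rw [hu] at ht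
    exact Subtype.ext ((xG_eq_one_iff hp.inList hr _).1 ht)

theorem node_pair [Fintype K] (hφ : ∀ x, φ x = x ^ q) (hqq : ∀ t : K, (t ^ q) ^ q = t) {i : Fin 4} {j₀ j₁ : Fin 6}
    (hJ : J i = [j₀, j₁]) (C : PairOK.{u} i (chevE6.simple j₀) (chevE6.simple j₁)) :
    NodeOK hp K J (sg φ) (twistedE6 K q) i := by
  have hr := NPerm.simple_lt hp.inList (lt_rank hp j₀)
  obtain ⟨Φ₀, hB₀, hu₀, hl₀⟩ := exists_blk_single hp j₀ (k := K) (RingHom.id K)
  obtain ⟨Φ₁, hB₁, hu₁, hl₁⟩ := exists_blk_single hp j₁ (k := K) φ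
  have hle := twisted_le_fix φ hφ hqq
  have hc : ∀ a b, Commute (Φ₀ a) (Φ₁ b) := by
    refine commute_of Φ₀ Φ₁ (fun s t => ?_) (fun s t => ?_) (fun s t => ?_) (fun s t => ?_)
    · rw [hu₀, hu₁]; exact (C.comm1 _ _).symm
    · rw [hu₀, hl₁]; exact (C.comm2 _ _).symm
    · rw [hl₀, hu₁]; exact (C.comm3 _ _).symm
    · rw [hl₀, hl₁]; exact (C.comm4 _ _).symm
  obtain ⟨Φ, hB, hΦ⟩ := hB₀.cons hp hB₁ hc
  have hu : ∀ t, Φ (uu t) = x (chevE6.simple j₀) t * x (chevE6.simple j₁) (φ t) := by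
    intro t; rw [hΦ, hu₀, hu₁]; rfl
  have hl : ∀ t, Φ (ll t) = x (chevE6.neg (chevE6.simple j₀)) t * x (chevE6.neg (chevE6.simple j₁)) (φ t) := by
    intro t; rw [hΦ, hl₀, hl₁]; rfl
  refine ⟨K, inferInstance, inferInstance, Φ, ?_, fun t => ?_, fun t => ?_, fun g => ?_, fun t ht => ?_⟩
  · rw [hJ]; exact hB
  · rw [hu, hφ]; exact C.pos_mem_G t
  · rw [hl, hφ]; exact C.neg_mem_G t
  · rw [R_pos]
    constructor
    · rintro ⟨h1, h2⟩
      obtain ⟨t, s, rfl⟩ := C.mem_pos h1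
      exact ⟨t, by rw [hu, C.fix_pos h2]⟩
    · rintro ⟨t, rfl⟩
      rw [hu]
      refine ⟨mul_mem (x_mem_rs (by rw [C.pos]; simp) _) (x_mem_rs (by rw [C.pos]; simp) _), hle ?_⟩
      rw [hφ]; exact C.pos_mem_G t
  · rw [hu] at ht
    have h1 : x (chevE6.simple j₀) t * x (chevE6.simple j₁) (φ t) =
        x (chevE6.simple j₀) 0 * x (chevE6.simple j₁) 0 := by
      rw [ht, TwE6Basic.x_zero, TwE6Basic.x_zero, mul_one]
    exact (C.x_pair_inj h1).1

theorem node [Fintype K] (hφ : ∀ x, φ x = x ^ q) (hqq : ∀ t : K, (t ^ q) ^ q = t) (i : Fin 4) :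
    NodeOK hp K J (sg φ) (twistedE6 K q) i := by
  have : i = 0 ∨ i = 1 ∨ i = 2 ∨ i = 3 := by fin_cases i <;> simp
  rcases this with rfl | rfl | rfl | rfl
  · have e : chevE6.simple ((1 : Fin 6) : ℕ) = 46 := by decide +kernel
    exact node_single hφ hqq (j₀ := 1) rfl (by rw [e]; exact TwE6BN.single0)
  · have e : chevE6.simple ((3 : Fin 6) : ℕ) = 39 := by decide +kernel
    exact node_single hφ hqq (j₀ := 3) rfl (by rw [e]; exact TwE6BN.single1)
  · have e : chevE6.simple ((2 : Fin 6) : ℕ) = 42 := by decide +kernel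
    have e' : chevE6.simple ((4 : Fin 6) : ℕ) = 37 := by decide +kernel
    exact node_pair hφ hqq (j₀ := 2) (j₁ := 4) rfl (by rw [e, e']; exact TwE6BN.pair2)
  · have e : chevE6.simple ((0 : Fin 6) : ℕ) = 56 := by decide +kernel
    have e' : chevE6.simple ((5 : Fin 6) : ℕ) = 36 := by decide +kernel
    exact node_pair hφ hqq (j₀ := 0) (j₁ := 5) rfl (by rw [e, e']; exact TwE6BN.pair3)

private noncomputable def _root_.Cfsg.Agent.LsF.ff3dbc9_0 : {f // @Cfsg.Agent.Nodes.RGDTwE6.A = f} := ⟨_, by first | (delta Cfsg.Agent.Nodes.RGDTwE6.A; rewrite [Cfsg.Agent.LsF.ineg_pat, Cfsg.Agent.LsF.vecCons_eq]; exact rfl) | exact rfl⟩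
private noncomputable def _root_.Cfsg.Agent.LsF.ff3dbc9_1 : {f // @Cfsg.Agent.ChevalleyStructure.RootVecTab.dig = f} := ⟨_, by first | (delta Cfsg.Agent.ChevalleyStructure.RootVecTab.dig; rewrite [Cfsg.Agent.LsF.nmul_pat]; exact rfl) | exact rfl⟩
private noncomputable def _root_.Cfsg.Agent.LsF.ff3dbc9_2 : {f // @Cfsg.Agent.ChevalleyStructure.RootVecTab.packTab = f} := ⟨_, by first | (delta Cfsg.Agent.ChevalleyStructure.RootVecTab.packTab; rewrite [Cfsg.Agent.LsF.instDecEq_eq, Cfsg.Agent.LsF.ite_eq]; exact rfl) | exact rfl⟩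
private noncomputable def _root_.Cfsg.Agent.LsF.ff3dbc9_3 : {f // @Cfsg.Agent.ChevalleyStructure.RootVecTab.code = f} := ⟨_, by first | (delta Cfsg.Agent.ChevalleyStructure.RootVecTab.code; rewrite [Cfsg.Agent.LsF.ff3dbc9_2.2, Cfsg.Agent.LsF.nmul_pat, Cfsg.Agent.LsF.npow_pat]; exact rfl) | exact rfl⟩
private noncomputable def _root_.Cfsg.Agent.LsF.ff3dbc9_4 : {f // @Cfsg.Agent.ChevalleyStructure.RootVec.rt = f} := ⟨_, by first | (delta Cfsg.Agent.ChevalleyStructure.RootVec.rt; rewrite [Cfsg.Agent.LsF.ff3dbc9_1.2, Cfsg.Agent.LsF.ff3dbc9_3.2, Cfsg.Agent.LsF.nsub_pat, Cfsg.Agent.LsF.isub_pat, Cfsg.Agent.LsF.icast_pat, Cfsg.Agent.LsF.decLt_eq, Cfsg.Agent.LsF.dAnd_eq, Cfsg.Agent.LsF.ite_eq]; exact rfl) | exact rfl⟩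
private noncomputable def _root_.Cfsg.Agent.LsF.ff3dbc9_5 : {f // @Cfsg.Agent.Nodes.RGDFold.V = f} := ⟨_, by first | (delta Cfsg.Agent.Nodes.RGDFold.V; rewrite [Cfsg.Agent.LsF.ff3dbc9_4.2, Cfsg.Agent.LsF.map_eq, Cfsg.Agent.LsF.sum_eq, Cfsg.Agent.LsF.instIAdd_eq]; exact rfl) | exact rfl⟩
private noncomputable def _root_.Cfsg.Agent.LsF.ff3dbc9_6 : {f // @Cfsg.Agent.Nodes.RGDTwE6.J = f} := ⟨_, by first | (delta Cfsg.Agent.Nodes.RGDTwE6.J; rewrite [Cfsg.Agent.LsF.vecCons_eq]; exact rfl) | exact rfl⟩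
private noncomputable def _root_.Cfsg.Agent.LsF.ff3dbc9_7 : {f // @Cfsg.Agent.ChevFast.dz = f} := ⟨_, by first | (delta Cfsg.Agent.ChevFast.dz; rewrite [Cfsg.Agent.LsF.cond_eq]; exact rfl) | exact rfl⟩
private noncomputable def _root_.Cfsg.Agent.LsF.ff3dbc9_8 : {f // @Cfsg.Agent.ChevFast.gz = f} := ⟨_, by first | (delta Cfsg.Agent.ChevFast.gz; rewrite [Cfsg.Agent.LsF.ff3dbc9_7.2]; exact rfl) | exact rfl⟩
theorem par : ∀ i, ∀ r < chevE6.nroots, (Even (pairing A i (V chevE6 J r)) ↔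
    Even ((J i).map fun j : Fin 6 => chevE6.cartan j r).sum) := by (rewrite [Cfsg.Agent.ChevFast.E6.cartan]; (refine of_decide_eq_true ?_; (try (delta Cfsg.Agent.ChevalleyStructure.CoxeterGeom.pairing; rewrite [Cfsg.Agent.LsF.sumF_pat, Cfsg.Agent.LsF.ff3dbc9_0.2, Cfsg.Agent.LsF.ff3dbc9_5.2, Cfsg.Agent.LsF.ff3dbc9_6.2, Cfsg.Agent.LsF.ff3dbc9_8.2, Cfsg.Agent.LsF.iadd_pat, Cfsg.Agent.LsF.imul_pat, Cfsg.Agent.LsF.iACM_eq, Cfsg.Agent.LsF.map_eq, Cfsg.Agent.LsF.sum_eq, Cfsg.Agent.LsF.dBallLT_eq, Cfsg.Agent.LsF.dForallFin_eq, Cfsg.Agent.LsF.dIffI_eq, Cfsg.Agent.LsF.decide_eq])); decide +kernel))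

private noncomputable def _root_.Cfsg.Agent.LsF.ff3dbc9_9 : {f // @Nat.pred = f} := ⟨_, by first | (delta Nat.pred; (try delta Nat.pow.match_1); (try delta Nat.casesOn); exact rfl) | exact rfl⟩
private noncomputable def _root_.Cfsg.Agent.LsF.ff3dbc9_10 : {f // @Cfsg.Agent.ChevFast.ix = f} := ⟨_, by first | (delta Cfsg.Agent.ChevFast.ix; rewrite [Cfsg.Agent.LsF.ff3dbc9_9.2]; exact rfl) | exact rfl⟩
private noncomputable def _root_.Cfsg.Agent.LsF.ff3dbc9_11 : {f // @Cfsg.Agent.ChevFast.sg = f} := ⟨_, by first | (delta Cfsg.Agent.ChevFast.sg; rewrite [Cfsg.Agent.LsF.cond_eq]; exact rfl) | exact rfl⟩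
private noncomputable def _root_.Cfsg.Agent.LsF.ff3dbc9_12 : {f // @Cfsg.Agent.ChevFast.cmT = f} := ⟨_, by first | (delta Cfsg.Agent.ChevFast.cmT; rewrite [Cfsg.Agent.LsF.ff3dbc9_10.2, Cfsg.Agent.LsF.ff3dbc9_11.2, Cfsg.Agent.LsF.cond_eq]; exact rfl) | exact rfl⟩
private noncomputable def _root_.Cfsg.Agent.LsF.ff3dbc9_13 : {f // @Cfsg.Agent.ChevFast.Lin.dB = f} := ⟨_, by first | (delta Cfsg.Agent.ChevFast.Lin.dB; rewrite [Cfsg.Agent.LsF.dIff_eq, Cfsg.Agent.LsF.dBoolEq_eq]; exact rfl) | exact rfl⟩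
theorem cls : ∀ r < chevE6.nroots, ∀ s < chevE6.nroots, V chevE6 J r = V chevE6 J s → s ≠ r →
    s ≠ chevE6.neg r ∧ chevE6.commTerms r s = [] := by (rewrite [Cfsg.Agent.ChevFast.E6.commTerms, Cfsg.Agent.ChevFast.E6.neg]; open scoped Cfsg.Agent.ChevFast.Lin in (refine of_decide_eq_true ?_; (try (rewrite [Cfsg.Agent.LsF.dPiF_pat, Cfsg.Agent.LsF.ff3dbc9_5.2, Cfsg.Agent.LsF.ff3dbc9_6.2, Cfsg.Agent.LsF.ff3dbc9_12.2, Cfsg.Agent.LsF.ff3dbc9_13.2, Cfsg.Agent.LsF.instDecEq_eq, Cfsg.Agent.LsF.instIDecEq_eq, Cfsg.Agent.LsF.dAnd_eq, Cfsg.Agent.LsF.dNot_eq, Cfsg.Agent.LsF.dAllP_eq, Cfsg.Agent.LsF.decide_eq])); decide +kernel))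

/-- **the input for `²E₆(q)`** -/
theorem hasIn_twE6 {K : Type u} [Field K] [Fintype K] {q : ℕ} (hq : IsPrimePow q) (hK : Fintype.card K = q ^ 2)
    (p : ℕ) [CharP K p] (h2 : (2 : K) ≠ 0) : HasIn p CoxeterMatrix.F₄ ↥(twistedE6 K q) := by
  obtain ⟨φ, hφ, hqq⟩ := exists_frob hq hK
  exact in_fold foldData (foldGrp hφ hqq) isCartan p h2 (by decide +kernel) (node hφ hqq) par cls

end Cfsg.Agent.H310.OQ.TwE6
end
end
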